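import Mathlib

set_option autoImplicit false

/-!
An abstract criterion: two central quotients of the same group.
-/

namespace Cfsg.Agent.Lib.Helper5.B2Orth

/-- if `G₀ = S/Z(S)` is simple and not abelian, and `S` maps onto a non-abelian subgroup `H` of a
group `K`, then `H/Z(H) ≅ G₀` -/
theorem nonempty_equiv_of_central_quotients {S G₀ K : Type*} [Group S] [Group G₀] [Group K]
    (θ : S →* G₀) (hθ : Function.Surjective θ) (hker : θ.ker = Subgroup.center S)
    (hsimple : IsSimpleGroup G₀)
    (H : Subgroup K) (ψ : S →* K) (hrange : ψ.range = H) (hH : ∃ x y : H, x * y ≠ y * x) :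
    Nonempty (G₀ ≃* H ⧸ Subgroup.center H) := by
  have hmem : ∀ s, ψ s ∈ H := fun s => by rw [← hrange]; exact ⟨s, rfl⟩
  let φ : S →* H := ψ.codRestrict H hmem
  have hφ : Function.Surjective φ := by
    rintro ⟨h, hh⟩
    rw [← hrange] at hh
    obtain ⟨s, rfl⟩ := hh
    exact ⟨s, rfl⟩
  let ρ : S →* H ⧸ Subgroup.center H := (QuotientGroup.mk' (Subgroup.center H)).comp φ
  have hρ : Function.Surjective ρ := (QuotientGroup.mk'_surjective _).comp hφ
  have hρker : ∀ s, s ∈ ρ.ker ↔ φ s ∈ Subgroup.center H := by
    intro s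
    rw [MonoidHom.mem_ker]
    show (QuotientGroup.mk (φ s) : H ⧸ Subgroup.center H) = 1 ↔ _
    rw [QuotientGroup.eq_one_iff]
  -- the centre of `S` maps into the centre of `H`
  have hcen : ∀ z ∈ Subgroup.center S, φ z ∈ Subgroup.center H := by
    intro z hz
    rw [Subgroup.mem_center_iff]
    intro h
    obtain ⟨s, rfl⟩ := hφ h
    rw [← map_mul, ← map_mul, (Subgroup.mem_center_iff.1 hz s)]
  have hkk : ρ.ker = θ.ker := by
    apply le_antisymm
    · -- `θ(ker ρ)` is a normal subgroup of the simple group `G₀`
      have hN : (ρ.ker.map θ).Normal := Subgroup.Normal.map inferInstance θ hθ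
      rcases hN.eq_bot_or_eq_top with hb | ht
      · intro s hs
        rw [MonoidHom.mem_ker]
        have : θ s ∈ ρ.ker.map θ := ⟨s, hs, rfl⟩
        rw [hb] at this
        exact Subgroup.mem_bot.1 this
      · exfalso
        obtain ⟨x, y, hxy⟩ := hH
        apply hxy
        -- every element of `H` is central
        have hall : ∀ h : H, h ∈ Subgroup.center H := by
          intro h
          obtain ⟨s, rfl⟩ := hφ h
          have : θ s ∈ ρ.ker.map θ := by rw [ht]; exact Subgroup.mem_top _
          obtain ⟨n, hn, hns⟩ := this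
          have hz : s * n⁻¹ ∈ Subgroup.center S := by
            rw [← hker, MonoidHom.mem_ker, map_mul, map_inv, hns, mul_inv_cancel]
          have e : s = (s * n⁻¹) * n := by group
          rw [e, map_mul]
          exact mul_mem (hcen _ hz) ((hρker n).1 hn)
        exact Subgroup.mem_center_iff.1 (hall y) x
    · rw [hker]
      intro z hz
      exact (hρker z).2 (hcen z hz)
  exact ⟨(QuotientGroup.quotientKerEquivOfSurjective θ hθ).symm.trans
    ((QuotientGroup.quotientMulEquivOfEq hkk.symm).trans
      (QuotientGroup.quotientKerEquivOfSurjective ρ hρ))⟩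

end Cfsg.Agent.Lib.Helper5.B2Orth
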