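import Mathlib
import Cfsg.Prelude.Def_ChevStructure
import Cfsg.Prelude.Def_ChevB2

set_option autoImplicit false

/-!
The root elements of the orthogonal group of `x₀² + x₁y₁ + x₂y₂` (on `Fin 5`, coordinates
`x₀, x₁, x₂, y₁, y₂`), numbered as the roots of the Chevalley datum of type `B₂`.
-/

namespace Cfsg.Agent.Lib.Helper5.B2Orth

open Cfsg Cfsg.Lie Matrix

variable {F : Type*} [Field F]

/-- the quadratic form -/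
def Q5 (v : Fin 5 → F) : F := v 0 ^ 2 + v 1 * v 3 + v 2 * v 4

/-- the root elements -/
def xm (r : ℕ) (t : F) : Matrix (Fin 5) (Fin 5) F :=
  match r with
  | 0 => !![1, 0, 0, 0, 0; 0, 1, 0, 0, 0; 0, 0, 1, 0, 0; 0, 0, -t, 1, 0; 0, t, 0, 0, 1]
  | 1 => !![1, t, 0, 0, 0; 0, 1, 0, 0, 0; 0, 0, 1, 0, 0; -(2 * t), -t ^ 2, 0, 1, 0; 0, 0, 0, 0, 1]
  | 2 => !![1, 0, t, 0, 0; 0, 1, 0, 0, 0; 0, 0, 1, 0, 0; 0, 0, 0, 1, 0; -(2 * t), 0, -t ^ 2, 0, 1]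
  | 3 => !![1, 0, 0, 0, 0; 0, 1, 0, 0, 0; 0, t, 1, 0, 0; 0, 0, 0, 1, -t; 0, 0, 0, 0, 1]
  | 4 => !![1, 0, 0, 0, 0; 0, 1, t, 0, 0; 0, 0, 1, 0, 0; 0, 0, 0, 1, 0; 0, 0, 0, -t, 1]
  | 5 => !![1, 0, 0, 0, -t; 0, 1, 0, 0, 0; 2 * t, 0, 1, 0, -t ^ 2; 0, 0, 0, 1, 0; 0, 0, 0, 0, 1]
  | 6 => !![1, 0, 0, -t, 0; 2 * t, 1, 0, -t ^ 2, 0; 0, 0, 1, 0, 0; 0, 0, 0, 1, 0; 0, 0, 0, 0, 1]
  | 7 => !![1, 0, 0, 0, 0; 0, 1, 0, 0, t; 0, 0, 1, -t, 0; 0, 0, 0, 1, 0; 0, 0, 0, 0, 1]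
  | _ => 1

theorem xm_0 (t : F) : xm 0 t = !![1, 0, 0, 0, 0; 0, 1, 0, 0, 0; 0, 0, 1, 0, 0; 0, 0, -t, 1, 0; 0, t, 0, 0, 1] := rfl

theorem xm_1 (t : F) : xm 1 t = !![1, t, 0, 0, 0; 0, 1, 0, 0, 0; 0, 0, 1, 0, 0; -(2 * t), -t ^ 2, 0, 1, 0; 0, 0, 0, 0, 1] := rfl

theorem xm_2 (t : F) : xm 2 t = !![1, 0, t, 0, 0; 0, 1, 0, 0, 0; 0, 0, 1, 0, 0; 0, 0, 0, 1, 0; -(2 * t), 0, -t ^ 2, 0, 1] := rfl

theorem xm_3 (t : F) : xm 3 t = !![1, 0, 0, 0, 0; 0, 1, 0, 0, 0; 0, t, 1, 0, 0; 0, 0, 0, 1, -t; 0, 0, 0, 0, 1] := rfl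

theorem xm_4 (t : F) : xm 4 t = !![1, 0, 0, 0, 0; 0, 1, t, 0, 0; 0, 0, 1, 0, 0; 0, 0, 0, 1, 0; 0, 0, 0, -t, 1] := rfl

theorem xm_5 (t : F) : xm 5 t = !![1, 0, 0, 0, -t; 0, 1, 0, 0, 0; 2 * t, 0, 1, 0, -t ^ 2; 0, 0, 0, 1, 0; 0, 0, 0, 0, 1] := rfl

theorem xm_6 (t : F) : xm 6 t = !![1, 0, 0, -t, 0; 2 * t, 1, 0, -t ^ 2, 0; 0, 0, 1, 0, 0; 0, 0, 0, 1, 0; 0, 0, 0, 0, 1] := rfl

theorem xm_7 (t : F) : xm 7 t = !![1, 0, 0, 0, 0; 0, 1, 0, 0, t; 0, 0, 1, -t, 0; 0, 0, 0, 1, 0; 0, 0, 0, 0, 1] := rfl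

theorem xm_add (r : ℕ) (t u : F) : xm r t * xm r u = xm r (t + u) := by
  by_cases hr : r < 8
  · interval_cases r <;>
    · simp only [xm_0, xm_1, xm_2, xm_3, xm_4, xm_5, xm_6, xm_7]
      ext i j
      fin_cases i <;> fin_cases j <;> simp [Matrix.mul_apply, Fin.sum_univ_five] <;> ring
  · have h : ∀ t : F, xm r t = 1 := by
      intro t
      unfold xm
      split <;> first | omega | rfl
    rw [h, h, h, mul_one]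

theorem xm_zero (r : ℕ) : xm r (0 : F) = 1 := by
  by_cases hr : r < 8
  · interval_cases r <;>
    · simp only [xm_0, xm_1, xm_2, xm_3, xm_4, xm_5, xm_6, xm_7]
      ext i j
      fin_cases i <;> fin_cases j <;> simp
  · unfold xm
    split <;> first | omega | rfl

theorem xm_isom (r : ℕ) (t : F) (v : Fin 5 → F) : Q5 (xm r t *ᵥ v) = Q5 v := by
  by_cases hr : r < 8
  · interval_cases r <;>
    · simp only [xm_0, xm_1, xm_2, xm_3, xm_4, xm_5, xm_6, xm_7]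
      simp [Q5, Matrix.mulVec, dotProduct, Fin.sum_univ_five]
      ring
  · have h : xm r t = 1 := by
      unfold xm
      split <;> first | omega | rfl
    rw [h, Matrix.one_mulVec]

end Cfsg.Agent.Lib.Helper5.B2Orth
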