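import Mathlib
import Cfsg.Agent.Lib.Helper5.B2Orth.Mat

set_option autoImplicit false
set_option linter.unusedSimpArgs false

/-!
The action of the root elements of `O₅` on column vectors.
-/

namespace Cfsg.Agent.Lib.Helper5.B2Orth

open Cfsg Cfsg.Lie Matrix

variable {F : Type*} [Field F]

theorem xm_mulVec_0 (t : F) (v : Fin 5 → F) :
    xm 0 t *ᵥ v = ![v 0, v 1, v 2, -(t * v 2) + v 3, t * v 1 + v 4] := by
  rw [xm_0]
  ext i
  fin_cases i <;> simp [Matrix.mulVec, dotProduct, Fin.sum_univ_five] <;> ring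

theorem xm_mulVec_1 (t : F) (v : Fin 5 → F) :
    xm 1 t *ᵥ v = ![v 0 + t * v 1, v 1, v 2, -((2 * t) * v 0) - (t ^ 2 * v 1) + v 3, v 4] := by
  rw [xm_1]
  ext i
  fin_cases i <;> simp [Matrix.mulVec, dotProduct, Fin.sum_univ_five] <;> ring

theorem xm_mulVec_2 (t : F) (v : Fin 5 → F) :
    xm 2 t *ᵥ v = ![v 0 + t * v 2, v 1, v 2, v 3, -((2 * t) * v 0) - (t ^ 2 * v 2) + v 4] := by
  rw [xm_2]
  ext i
  fin_cases i <;> simp [Matrix.mulVec, dotProduct, Fin.sum_univ_five] <;> ring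

theorem xm_mulVec_3 (t : F) (v : Fin 5 → F) :
    xm 3 t *ᵥ v = ![v 0, v 1, t * v 1 + v 2, v 3 - (t * v 4), v 4] := by
  rw [xm_3]
  ext i
  fin_cases i <;> simp [Matrix.mulVec, dotProduct, Fin.sum_univ_five] <;> ring

theorem xm_mulVec_4 (t : F) (v : Fin 5 → F) :
    xm 4 t *ᵥ v = ![v 0, v 1 + t * v 2, v 2, v 3, -(t * v 3) + v 4] := by
  rw [xm_4]
  ext i
  fin_cases i <;> simp [Matrix.mulVec, dotProduct, Fin.sum_univ_five] <;> ring

theorem xm_mulVec_5 (t : F) (v : Fin 5 → F) :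
    xm 5 t *ᵥ v = ![v 0 - (t * v 4), v 1, 2 * t * v 0 + v 2 - (t ^ 2 * v 4), v 3, v 4] := by
  rw [xm_5]
  ext i
  fin_cases i <;> simp [Matrix.mulVec, dotProduct, Fin.sum_univ_five] <;> ring

theorem xm_mulVec_6 (t : F) (v : Fin 5 → F) :
    xm 6 t *ᵥ v = ![v 0 - (t * v 3), 2 * t * v 0 + v 1 - (t ^ 2 * v 3), v 2, v 3, v 4] := by
  rw [xm_6]
  ext i
  fin_cases i <;> simp [Matrix.mulVec, dotProduct, Fin.sum_univ_five] <;> ring

theorem xm_mulVec_7 (t : F) (v : Fin 5 → F) :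
    xm 7 t *ᵥ v = ![v 0, v 1 + t * v 4, v 2 - (t * v 3), v 3, v 4] := by
  rw [xm_7]
  ext i
  fin_cases i <;> simp [Matrix.mulVec, dotProduct, Fin.sum_univ_five] <;> ring

/-- two matrices with the same action on column vectors are equal -/
theorem ext_mulVec {M N : Matrix (Fin 5) (Fin 5) F} (h : ∀ v : Fin 5 → F, M *ᵥ v = N *ᵥ v) :
    M = N := by
  ext i j
  have := congrFun (h (Pi.single j 1)) i
  simpa using this

end Cfsg.Agent.Lib.Helper5.B2Orth
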