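import Mathlib
import Cfsg.Prelude.Def_ChevStructure
import Cfsg.Prelude.Def_ChevB2
import Cfsg.Agent.Lib.Helper5.B2Orth.Vec

set_option autoImplicit false
set_option linter.unusedSimpArgs false
set_option linter.unreachableTactic false
set_option linter.unusedTactic false

/-!
Chevalley's commutator formula for the root elements of `O₅` (CommA).
-/

namespace Cfsg.Agent.Lib.Helper5.B2Orth

open Cfsg Cfsg.Lie Matrix

variable {F : Type*} [Field F]

theorem commTerms_0_1 : chevB2.commTerms 0 1 = ([] : List (ℕ × ℤ × ℕ × ℕ)) := by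
  decide +kernel

theorem commW_0_1 (t u : F) :
    xm 1 (-u) * xm 0 (-t) * xm 1 u * xm 0 t
      = ((chevB2.commWord F 0 1 t u).map fun p => xm p.1 p.2).prod := by
  have h : chevB2.commWord F 0 1 t u = [] := by
    unfold ChevalleyDatum.commWord
    rw [commTerms_0_1]
    rfl
  rw [h]
  simp only [List.map_cons, List.map_nil, List.prod_cons, List.prod_nil, mul_one]
  apply ext_mulVec
  intro v
  simp only [← Matrix.mulVec_mulVec, Matrix.one_mulVec, xm_mulVec_0, xm_mulVec_1, xm_mulVec_2,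
    xm_mulVec_3, xm_mulVec_4, xm_mulVec_5, xm_mulVec_6, xm_mulVec_7]
  ext i
  fin_cases i <;> simp <;> ring

theorem commTerms_0_2 : chevB2.commTerms 0 2 = ([] : List (ℕ × ℤ × ℕ × ℕ)) := by
  decide +kernel

theorem commW_0_2 (t u : F) :
    xm 2 (-u) * xm 0 (-t) * xm 2 u * xm 0 t
      = ((chevB2.commWord F 0 2 t u).map fun p => xm p.1 p.2).prod := by
  have h : chevB2.commWord F 0 2 t u = [] := by
    unfold ChevalleyDatum.commWord
    rw [commTerms_0_2]
    rfl
  rw [h]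
  simp only [List.map_cons, List.map_nil, List.prod_cons, List.prod_nil, mul_one]
  apply ext_mulVec
  intro v
  simp only [← Matrix.mulVec_mulVec, Matrix.one_mulVec, xm_mulVec_0, xm_mulVec_1, xm_mulVec_2,
    xm_mulVec_3, xm_mulVec_4, xm_mulVec_5, xm_mulVec_6, xm_mulVec_7]
  ext i
  fin_cases i <;> simp <;> ring

theorem commTerms_0_3 : chevB2.commTerms 0 3 = ([] : List (ℕ × ℤ × ℕ × ℕ)) := by
  decide +kernel

theorem commW_0_3 (t u : F) :
    xm 3 (-u) * xm 0 (-t) * xm 3 u * xm 0 t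
      = ((chevB2.commWord F 0 3 t u).map fun p => xm p.1 p.2).prod := by
  have h : chevB2.commWord F 0 3 t u = [] := by
    unfold ChevalleyDatum.commWord
    rw [commTerms_0_3]
    rfl
  rw [h]
  simp only [List.map_cons, List.map_nil, List.prod_cons, List.prod_nil, mul_one]
  apply ext_mulVec
  intro v
  simp only [← Matrix.mulVec_mulVec, Matrix.one_mulVec, xm_mulVec_0, xm_mulVec_1, xm_mulVec_2,
    xm_mulVec_3, xm_mulVec_4, xm_mulVec_5, xm_mulVec_6, xm_mulVec_7]
  ext i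
  fin_cases i <;> simp <;> ring

theorem commTerms_0_4 : chevB2.commTerms 0 4 = ([] : List (ℕ × ℤ × ℕ × ℕ)) := by
  decide +kernel

theorem commW_0_4 (t u : F) :
    xm 4 (-u) * xm 0 (-t) * xm 4 u * xm 0 t
      = ((chevB2.commWord F 0 4 t u).map fun p => xm p.1 p.2).prod := by
  have h : chevB2.commWord F 0 4 t u = [] := by
    unfold ChevalleyDatum.commWord
    rw [commTerms_0_4]
    rfl
  rw [h]
  simp only [List.map_cons, List.map_nil, List.prod_cons, List.prod_nil, mul_one]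
  apply ext_mulVec
  intro v
  simp only [← Matrix.mulVec_mulVec, Matrix.one_mulVec, xm_mulVec_0, xm_mulVec_1, xm_mulVec_2,
    xm_mulVec_3, xm_mulVec_4, xm_mulVec_5, xm_mulVec_6, xm_mulVec_7]
  ext i
  fin_cases i <;> simp <;> ring

theorem commTerms_0_5 : chevB2.commTerms 0 5 = ([(1, 1, 1, 1), (3, -1, 1, 2)] : List (ℕ × ℤ × ℕ × ℕ)) := by
  decide +kernel

theorem commW_0_5 (t u : F) :
    xm 5 (-u) * xm 0 (-t) * xm 5 u * xm 0 t
      = ((chevB2.commWord F 0 5 t u).map fun p => xm p.1 p.2).prod := by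
  have h : chevB2.commWord F 0 5 t u = [(1, ((1 : ℤ) : F) * (-t) ^ 1 * u ^ 1), (3, ((-1 : ℤ) : F) * (-t) ^ 1 * u ^ 2)] := by
    unfold ChevalleyDatum.commWord
    rw [commTerms_0_5]
    rfl
  rw [h]
  simp only [List.map_cons, List.map_nil, List.prod_cons, List.prod_nil, mul_one]
  apply ext_mulVec
  intro v
  simp only [← Matrix.mulVec_mulVec, Matrix.one_mulVec, xm_mulVec_0, xm_mulVec_1, xm_mulVec_2,
    xm_mulVec_3, xm_mulVec_4, xm_mulVec_5, xm_mulVec_6, xm_mulVec_7]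
  ext i
  fin_cases i <;> simp <;> ring

theorem commTerms_0_6 : chevB2.commTerms 0 6 = ([(2, -1, 1, 1), (4, 1, 1, 2)] : List (ℕ × ℤ × ℕ × ℕ)) := by
  decide +kernel

theorem commW_0_6 (t u : F) :
    xm 6 (-u) * xm 0 (-t) * xm 6 u * xm 0 t
      = ((chevB2.commWord F 0 6 t u).map fun p => xm p.1 p.2).prod := by
  have h : chevB2.commWord F 0 6 t u = [(2, ((-1 : ℤ) : F) * (-t) ^ 1 * u ^ 1), (4, ((1 : ℤ) : F) * (-t) ^ 1 * u ^ 2)] := by
    unfold ChevalleyDatum.commWord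
    rw [commTerms_0_6]
    rfl
  rw [h]
  simp only [List.map_cons, List.map_nil, List.prod_cons, List.prod_nil, mul_one]
  apply ext_mulVec
  intro v
  simp only [← Matrix.mulVec_mulVec, Matrix.one_mulVec, xm_mulVec_0, xm_mulVec_1, xm_mulVec_2,
    xm_mulVec_3, xm_mulVec_4, xm_mulVec_5, xm_mulVec_6, xm_mulVec_7]
  ext i
  fin_cases i <;> simp <;> ring

theorem commTerms_1_0 : chevB2.commTerms 1 0 = ([] : List (ℕ × ℤ × ℕ × ℕ)) := by
  decide +kernel

theorem commW_1_0 (t u : F) :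
    xm 0 (-u) * xm 1 (-t) * xm 0 u * xm 1 t
      = ((chevB2.commWord F 1 0 t u).map fun p => xm p.1 p.2).prod := by
  have h : chevB2.commWord F 1 0 t u = [] := by
    unfold ChevalleyDatum.commWord
    rw [commTerms_1_0]
    rfl
  rw [h]
  simp only [List.map_cons, List.map_nil, List.prod_cons, List.prod_nil, mul_one]
  apply ext_mulVec
  intro v
  simp only [← Matrix.mulVec_mulVec, Matrix.one_mulVec, xm_mulVec_0, xm_mulVec_1, xm_mulVec_2,
    xm_mulVec_3, xm_mulVec_4, xm_mulVec_5, xm_mulVec_6, xm_mulVec_7]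
  ext i
  fin_cases i <;> simp <;> ring

theorem commTerms_1_2 : chevB2.commTerms 1 2 = ([(0, 2, 1, 1)] : List (ℕ × ℤ × ℕ × ℕ)) := by
  decide +kernel

theorem commW_1_2 (t u : F) :
    xm 2 (-u) * xm 1 (-t) * xm 2 u * xm 1 t
      = ((chevB2.commWord F 1 2 t u).map fun p => xm p.1 p.2).prod := by
  have h : chevB2.commWord F 1 2 t u = [(0, ((2 : ℤ) : F) * (-t) ^ 1 * u ^ 1)] := by
    unfold ChevalleyDatum.commWord
    rw [commTerms_1_2]
    rfl
  rw [h]
  simp only [List.map_cons, List.map_nil, List.prod_cons, List.prod_nil, mul_one]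
  apply ext_mulVec
  intro v
  simp only [← Matrix.mulVec_mulVec, Matrix.one_mulVec, xm_mulVec_0, xm_mulVec_1, xm_mulVec_2,
    xm_mulVec_3, xm_mulVec_4, xm_mulVec_5, xm_mulVec_6, xm_mulVec_7]
  ext i
  fin_cases i <;> simp <;> ring

theorem commTerms_1_3 : chevB2.commTerms 1 3 = ([] : List (ℕ × ℤ × ℕ × ℕ)) := by
  decide +kernel

theorem commW_1_3 (t u : F) :
    xm 3 (-u) * xm 1 (-t) * xm 3 u * xm 1 t
      = ((chevB2.commWord F 1 3 t u).map fun p => xm p.1 p.2).prod := by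
  have h : chevB2.commWord F 1 3 t u = [] := by
    unfold ChevalleyDatum.commWord
    rw [commTerms_1_3]
    rfl
  rw [h]
  simp only [List.map_cons, List.map_nil, List.prod_cons, List.prod_nil, mul_one]
  apply ext_mulVec
  intro v
  simp only [← Matrix.mulVec_mulVec, Matrix.one_mulVec, xm_mulVec_0, xm_mulVec_1, xm_mulVec_2,
    xm_mulVec_3, xm_mulVec_4, xm_mulVec_5, xm_mulVec_6, xm_mulVec_7]
  ext i
  fin_cases i <;> simp <;> ring

theorem commTerms_1_4 : chevB2.commTerms 1 4 = ([(2, 1, 1, 1), (0, 1, 2, 1)] : List (ℕ × ℤ × ℕ × ℕ)) := by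
  decide +kernel

theorem commW_1_4 (t u : F) :
    xm 4 (-u) * xm 1 (-t) * xm 4 u * xm 1 t
      = ((chevB2.commWord F 1 4 t u).map fun p => xm p.1 p.2).prod := by
  have h : chevB2.commWord F 1 4 t u = [(2, ((1 : ℤ) : F) * (-t) ^ 1 * u ^ 1), (0, ((1 : ℤ) : F) * (-t) ^ 2 * u ^ 1)] := by
    unfold ChevalleyDatum.commWord
    rw [commTerms_1_4]
    rfl
  rw [h]
  simp only [List.map_cons, List.map_nil, List.prod_cons, List.prod_nil, mul_one]
  apply ext_mulVec
  intro v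
  simp only [← Matrix.mulVec_mulVec, Matrix.one_mulVec, xm_mulVec_0, xm_mulVec_1, xm_mulVec_2,
    xm_mulVec_3, xm_mulVec_4, xm_mulVec_5, xm_mulVec_6, xm_mulVec_7]
  ext i
  fin_cases i <;> simp <;> ring

theorem commTerms_1_5 : chevB2.commTerms 1 5 = ([(3, -2, 1, 1)] : List (ℕ × ℤ × ℕ × ℕ)) := by
  decide +kernel

theorem commW_1_5 (t u : F) :
    xm 5 (-u) * xm 1 (-t) * xm 5 u * xm 1 t
      = ((chevB2.commWord F 1 5 t u).map fun p => xm p.1 p.2).prod := by
  have h : chevB2.commWord F 1 5 t u = [(3, ((-2 : ℤ) : F) * (-t) ^ 1 * u ^ 1)] := by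
    unfold ChevalleyDatum.commWord
    rw [commTerms_1_5]
    rfl
  rw [h]
  simp only [List.map_cons, List.map_nil, List.prod_cons, List.prod_nil, mul_one]
  apply ext_mulVec
  intro v
  simp only [← Matrix.mulVec_mulVec, Matrix.one_mulVec, xm_mulVec_0, xm_mulVec_1, xm_mulVec_2,
    xm_mulVec_3, xm_mulVec_4, xm_mulVec_5, xm_mulVec_6, xm_mulVec_7]
  ext i
  fin_cases i <;> simp <;> ring

theorem commTerms_1_7 : chevB2.commTerms 1 7 = ([(5, -1, 1, 1), (3, 1, 2, 1)] : List (ℕ × ℤ × ℕ × ℕ)) := by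
  decide +kernel

theorem commW_1_7 (t u : F) :
    xm 7 (-u) * xm 1 (-t) * xm 7 u * xm 1 t
      = ((chevB2.commWord F 1 7 t u).map fun p => xm p.1 p.2).prod := by
  have h : chevB2.commWord F 1 7 t u = [(5, ((-1 : ℤ) : F) * (-t) ^ 1 * u ^ 1), (3, ((1 : ℤ) : F) * (-t) ^ 2 * u ^ 1)] := by
    unfold ChevalleyDatum.commWord
    rw [commTerms_1_7]
    rfl
  rw [h]
  simp only [List.map_cons, List.map_nil, List.prod_cons, List.prod_nil, mul_one]
  apply ext_mulVec
  intro v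
  simp only [← Matrix.mulVec_mulVec, Matrix.one_mulVec, xm_mulVec_0, xm_mulVec_1, xm_mulVec_2,
    xm_mulVec_3, xm_mulVec_4, xm_mulVec_5, xm_mulVec_6, xm_mulVec_7]
  ext i
  fin_cases i <;> simp <;> ring

theorem commTerms_2_0 : chevB2.commTerms 2 0 = ([] : List (ℕ × ℤ × ℕ × ℕ)) := by
  decide +kernel

theorem commW_2_0 (t u : F) :
    xm 0 (-u) * xm 2 (-t) * xm 0 u * xm 2 t
      = ((chevB2.commWord F 2 0 t u).map fun p => xm p.1 p.2).prod := by
  have h : chevB2.commWord F 2 0 t u = [] := by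
    unfold ChevalleyDatum.commWord
    rw [commTerms_2_0]
    rfl
  rw [h]
  simp only [List.map_cons, List.map_nil, List.prod_cons, List.prod_nil, mul_one]
  apply ext_mulVec
  intro v
  simp only [← Matrix.mulVec_mulVec, Matrix.one_mulVec, xm_mulVec_0, xm_mulVec_1, xm_mulVec_2,
    xm_mulVec_3, xm_mulVec_4, xm_mulVec_5, xm_mulVec_6, xm_mulVec_7]
  ext i
  fin_cases i <;> simp <;> ring

theorem commTerms_2_1 : chevB2.commTerms 2 1 = ([(0, -2, 1, 1)] : List (ℕ × ℤ × ℕ × ℕ)) := by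
  decide +kernel

theorem commW_2_1 (t u : F) :
    xm 1 (-u) * xm 2 (-t) * xm 1 u * xm 2 t
      = ((chevB2.commWord F 2 1 t u).map fun p => xm p.1 p.2).prod := by
  have h : chevB2.commWord F 2 1 t u = [(0, ((-2 : ℤ) : F) * (-t) ^ 1 * u ^ 1)] := by
    unfold ChevalleyDatum.commWord
    rw [commTerms_2_1]
    rfl
  rw [h]
  simp only [List.map_cons, List.map_nil, List.prod_cons, List.prod_nil, mul_one]
  apply ext_mulVec
  intro v
  simp only [← Matrix.mulVec_mulVec, Matrix.one_mulVec, xm_mulVec_0, xm_mulVec_1, xm_mulVec_2,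
    xm_mulVec_3, xm_mulVec_4, xm_mulVec_5, xm_mulVec_6, xm_mulVec_7]
  ext i
  fin_cases i <;> simp <;> ring

theorem commTerms_2_3 : chevB2.commTerms 2 3 = ([(1, 1, 1, 1), (0, -1, 2, 1)] : List (ℕ × ℤ × ℕ × ℕ)) := by
  decide +kernel

theorem commW_2_3 (t u : F) :
    xm 3 (-u) * xm 2 (-t) * xm 3 u * xm 2 t
      = ((chevB2.commWord F 2 3 t u).map fun p => xm p.1 p.2).prod := by
  have h : chevB2.commWord F 2 3 t u = [(1, ((1 : ℤ) : F) * (-t) ^ 1 * u ^ 1), (0, ((-1 : ℤ) : F) * (-t) ^ 2 * u ^ 1)] := by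
    unfold ChevalleyDatum.commWord
    rw [commTerms_2_3]
    rfl
  rw [h]
  simp only [List.map_cons, List.map_nil, List.prod_cons, List.prod_nil, mul_one]
  apply ext_mulVec
  intro v
  simp only [← Matrix.mulVec_mulVec, Matrix.one_mulVec, xm_mulVec_0, xm_mulVec_1, xm_mulVec_2,
    xm_mulVec_3, xm_mulVec_4, xm_mulVec_5, xm_mulVec_6, xm_mulVec_7]
  ext i
  fin_cases i <;> simp <;> ring

theorem commTerms_2_4 : chevB2.commTerms 2 4 = ([] : List (ℕ × ℤ × ℕ × ℕ)) := by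
  decide +kernel

theorem commW_2_4 (t u : F) :
    xm 4 (-u) * xm 2 (-t) * xm 4 u * xm 2 t
      = ((chevB2.commWord F 2 4 t u).map fun p => xm p.1 p.2).prod := by
  have h : chevB2.commWord F 2 4 t u = [] := by
    unfold ChevalleyDatum.commWord
    rw [commTerms_2_4]
    rfl
  rw [h]
  simp only [List.map_cons, List.map_nil, List.prod_cons, List.prod_nil, mul_one]
  apply ext_mulVec
  intro v
  simp only [← Matrix.mulVec_mulVec, Matrix.one_mulVec, xm_mulVec_0, xm_mulVec_1, xm_mulVec_2,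
    xm_mulVec_3, xm_mulVec_4, xm_mulVec_5, xm_mulVec_6, xm_mulVec_7]
  ext i
  fin_cases i <;> simp <;> ring

theorem commTerms_2_6 : chevB2.commTerms 2 6 = ([(4, -2, 1, 1)] : List (ℕ × ℤ × ℕ × ℕ)) := by
  decide +kernel

theorem commW_2_6 (t u : F) :
    xm 6 (-u) * xm 2 (-t) * xm 6 u * xm 2 t
      = ((chevB2.commWord F 2 6 t u).map fun p => xm p.1 p.2).prod := by
  have h : chevB2.commWord F 2 6 t u = [(4, ((-2 : ℤ) : F) * (-t) ^ 1 * u ^ 1)] := by
    unfold ChevalleyDatum.commWord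
    rw [commTerms_2_6]
    rfl
  rw [h]
  simp only [List.map_cons, List.map_nil, List.prod_cons, List.prod_nil, mul_one]
  apply ext_mulVec
  intro v
  simp only [← Matrix.mulVec_mulVec, Matrix.one_mulVec, xm_mulVec_0, xm_mulVec_1, xm_mulVec_2,
    xm_mulVec_3, xm_mulVec_4, xm_mulVec_5, xm_mulVec_6, xm_mulVec_7]
  ext i
  fin_cases i <;> simp <;> ring

theorem commTerms_2_7 : chevB2.commTerms 2 7 = ([(6, 1, 1, 1), (4, -1, 2, 1)] : List (ℕ × ℤ × ℕ × ℕ)) := by
  decide +kernel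

theorem commW_2_7 (t u : F) :
    xm 7 (-u) * xm 2 (-t) * xm 7 u * xm 2 t
      = ((chevB2.commWord F 2 7 t u).map fun p => xm p.1 p.2).prod := by
  have h : chevB2.commWord F 2 7 t u = [(6, ((1 : ℤ) : F) * (-t) ^ 1 * u ^ 1), (4, ((-1 : ℤ) : F) * (-t) ^ 2 * u ^ 1)] := by
    unfold ChevalleyDatum.commWord
    rw [commTerms_2_7]
    rfl
  rw [h]
  simp only [List.map_cons, List.map_nil, List.prod_cons, List.prod_nil, mul_one]
  apply ext_mulVec
  intro v
  simp only [← Matrix.mulVec_mulVec, Matrix.one_mulVec, xm_mulVec_0, xm_mulVec_1, xm_mulVec_2,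
    xm_mulVec_3, xm_mulVec_4, xm_mulVec_5, xm_mulVec_6, xm_mulVec_7]
  ext i
  fin_cases i <;> simp <;> ring

theorem commTerms_3_0 : chevB2.commTerms 3 0 = ([] : List (ℕ × ℤ × ℕ × ℕ)) := by
  decide +kernel

theorem commW_3_0 (t u : F) :
    xm 0 (-u) * xm 3 (-t) * xm 0 u * xm 3 t
      = ((chevB2.commWord F 3 0 t u).map fun p => xm p.1 p.2).prod := by
  have h : chevB2.commWord F 3 0 t u = [] := by
    unfold ChevalleyDatum.commWord
    rw [commTerms_3_0]
    rfl
  rw [h]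
  simp only [List.map_cons, List.map_nil, List.prod_cons, List.prod_nil, mul_one]
  apply ext_mulVec
  intro v
  simp only [← Matrix.mulVec_mulVec, Matrix.one_mulVec, xm_mulVec_0, xm_mulVec_1, xm_mulVec_2,
    xm_mulVec_3, xm_mulVec_4, xm_mulVec_5, xm_mulVec_6, xm_mulVec_7]
  ext i
  fin_cases i <;> simp <;> ring

theorem commTerms_3_1 : chevB2.commTerms 3 1 = ([] : List (ℕ × ℤ × ℕ × ℕ)) := by
  decide +kernel

theorem commW_3_1 (t u : F) :
    xm 1 (-u) * xm 3 (-t) * xm 1 u * xm 3 t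
      = ((chevB2.commWord F 3 1 t u).map fun p => xm p.1 p.2).prod := by
  have h : chevB2.commWord F 3 1 t u = [] := by
    unfold ChevalleyDatum.commWord
    rw [commTerms_3_1]
    rfl
  rw [h]
  simp only [List.map_cons, List.map_nil, List.prod_cons, List.prod_nil, mul_one]
  apply ext_mulVec
  intro v
  simp only [← Matrix.mulVec_mulVec, Matrix.one_mulVec, xm_mulVec_0, xm_mulVec_1, xm_mulVec_2,
    xm_mulVec_3, xm_mulVec_4, xm_mulVec_5, xm_mulVec_6, xm_mulVec_7]
  ext i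
  fin_cases i <;> simp <;> ring

theorem commTerms_3_2 : chevB2.commTerms 3 2 = ([(1, -1, 1, 1), (0, -1, 1, 2)] : List (ℕ × ℤ × ℕ × ℕ)) := by
  decide +kernel

theorem commW_3_2 (t u : F) :
    xm 2 (-u) * xm 3 (-t) * xm 2 u * xm 3 t
      = ((chevB2.commWord F 3 2 t u).map fun p => xm p.1 p.2).prod := by
  have h : chevB2.commWord F 3 2 t u = [(1, ((-1 : ℤ) : F) * (-t) ^ 1 * u ^ 1), (0, ((-1 : ℤ) : F) * (-t) ^ 1 * u ^ 2)] := by
    unfold ChevalleyDatum.commWord
    rw [commTerms_3_2]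
    rfl
  rw [h]
  simp only [List.map_cons, List.map_nil, List.prod_cons, List.prod_nil, mul_one]
  apply ext_mulVec
  intro v
  simp only [← Matrix.mulVec_mulVec, Matrix.one_mulVec, xm_mulVec_0, xm_mulVec_1, xm_mulVec_2,
    xm_mulVec_3, xm_mulVec_4, xm_mulVec_5, xm_mulVec_6, xm_mulVec_7]
  ext i
  fin_cases i <;> simp <;> ring

theorem commTerms_3_5 : chevB2.commTerms 3 5 = ([] : List (ℕ × ℤ × ℕ × ℕ)) := by
  decide +kernel

theorem commW_3_5 (t u : F) :
    xm 5 (-u) * xm 3 (-t) * xm 5 u * xm 3 t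
      = ((chevB2.commWord F 3 5 t u).map fun p => xm p.1 p.2).prod := by
  have h : chevB2.commWord F 3 5 t u = [] := by
    unfold ChevalleyDatum.commWord
    rw [commTerms_3_5]
    rfl
  rw [h]
  simp only [List.map_cons, List.map_nil, List.prod_cons, List.prod_nil, mul_one]
  apply ext_mulVec
  intro v
  simp only [← Matrix.mulVec_mulVec, Matrix.one_mulVec, xm_mulVec_0, xm_mulVec_1, xm_mulVec_2,
    xm_mulVec_3, xm_mulVec_4, xm_mulVec_5, xm_mulVec_6, xm_mulVec_7]
  ext i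
  fin_cases i <;> simp <;> ring

theorem commTerms_3_6 : chevB2.commTerms 3 6 = ([(5, 1, 1, 1), (7, 1, 1, 2)] : List (ℕ × ℤ × ℕ × ℕ)) := by
  decide +kernel

theorem commW_3_6 (t u : F) :
    xm 6 (-u) * xm 3 (-t) * xm 6 u * xm 3 t
      = ((chevB2.commWord F 3 6 t u).map fun p => xm p.1 p.2).prod := by
  have h : chevB2.commWord F 3 6 t u = [(5, ((1 : ℤ) : F) * (-t) ^ 1 * u ^ 1), (7, ((1 : ℤ) : F) * (-t) ^ 1 * u ^ 2)] := by
    unfold ChevalleyDatum.commWord
    rw [commTerms_3_6]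
    rfl
  rw [h]
  simp only [List.map_cons, List.map_nil, List.prod_cons, List.prod_nil, mul_one]
  apply ext_mulVec
  intro v
  simp only [← Matrix.mulVec_mulVec, Matrix.one_mulVec, xm_mulVec_0, xm_mulVec_1, xm_mulVec_2,
    xm_mulVec_3, xm_mulVec_4, xm_mulVec_5, xm_mulVec_6, xm_mulVec_7]
  ext i
  fin_cases i <;> simp <;> ring

theorem commTerms_3_7 : chevB2.commTerms 3 7 = ([] : List (ℕ × ℤ × ℕ × ℕ)) := by
  decide +kernel

theorem commW_3_7 (t u : F) :
    xm 7 (-u) * xm 3 (-t) * xm 7 u * xm 3 t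
      = ((chevB2.commWord F 3 7 t u).map fun p => xm p.1 p.2).prod := by
  have h : chevB2.commWord F 3 7 t u = [] := by
    unfold ChevalleyDatum.commWord
    rw [commTerms_3_7]
    rfl
  rw [h]
  simp only [List.map_cons, List.map_nil, List.prod_cons, List.prod_nil, mul_one]
  apply ext_mulVec
  intro v
  simp only [← Matrix.mulVec_mulVec, Matrix.one_mulVec, xm_mulVec_0, xm_mulVec_1, xm_mulVec_2,
    xm_mulVec_3, xm_mulVec_4, xm_mulVec_5, xm_mulVec_6, xm_mulVec_7]
  ext i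
  fin_cases i <;> simp <;> ring

end Cfsg.Agent.Lib.Helper5.B2Orth
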