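import Mathlib
import Cfsg.Prelude.Def_ChevStructure
import Cfsg.Prelude.Def_ChevB2
import Cfsg.Agent.Lib.Helper5.B2Orth.Vec

set_option autoImplicit false
set_option linter.unusedSimpArgs false
set_option linter.unreachableTactic false
set_option linter.unusedTactic false

/-!
Chevalley's commutator formula for the root elements of `O₅` (CommB).
-/

namespace Cfsg.Agent.Lib.Helper5.B2Orth

open Cfsg Cfsg.Lie Matrix

variable {F : Type*} [Field F]

theorem commTerms_4_0 : chevB2.commTerms 4 0 = ([] : List (ℕ × ℤ × ℕ × ℕ)) := by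
  decide +kernel

theorem commW_4_0 (t u : F) :
    xm 0 (-u) * xm 4 (-t) * xm 0 u * xm 4 t
      = ((chevB2.commWord F 4 0 t u).map fun p => xm p.1 p.2).prod := by
  have h : chevB2.commWord F 4 0 t u = [] := by
    unfold ChevalleyDatum.commWord
    rw [commTerms_4_0]
    rfl
  rw [h]
  simp only [List.map_cons, List.map_nil, List.prod_cons, List.prod_nil, mul_one]
  apply ext_mulVec
  intro v
  simp only [← Matrix.mulVec_mulVec, Matrix.one_mulVec, xm_mulVec_0, xm_mulVec_1, xm_mulVec_2,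
    xm_mulVec_3, xm_mulVec_4, xm_mulVec_5, xm_mulVec_6, xm_mulVec_7]
  ext i
  fin_cases i <;> simp <;> ring

theorem commTerms_4_1 : chevB2.commTerms 4 1 = ([(2, -1, 1, 1), (0, 1, 1, 2)] : List (ℕ × ℤ × ℕ × ℕ)) := by
  decide +kernel

theorem commW_4_1 (t u : F) :
    xm 1 (-u) * xm 4 (-t) * xm 1 u * xm 4 t
      = ((chevB2.commWord F 4 1 t u).map fun p => xm p.1 p.2).prod := by
  have h : chevB2.commWord F 4 1 t u = [(2, ((-1 : ℤ) : F) * (-t) ^ 1 * u ^ 1), (0, ((1 : ℤ) : F) * (-t) ^ 1 * u ^ 2)] := by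
    unfold ChevalleyDatum.commWord
    rw [commTerms_4_1]
    rfl
  rw [h]
  simp only [List.map_cons, List.map_nil, List.prod_cons, List.prod_nil, mul_one]
  apply ext_mulVec
  intro v
  simp only [← Matrix.mulVec_mulVec, Matrix.one_mulVec, xm_mulVec_0, xm_mulVec_1, xm_mulVec_2,
    xm_mulVec_3, xm_mulVec_4, xm_mulVec_5, xm_mulVec_6, xm_mulVec_7]
  ext i
  fin_cases i <;> simp <;> ring

theorem commTerms_4_2 : chevB2.commTerms 4 2 = ([] : List (ℕ × ℤ × ℕ × ℕ)) := by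
  decide +kernel

theorem commW_4_2 (t u : F) :
    xm 2 (-u) * xm 4 (-t) * xm 2 u * xm 4 t
      = ((chevB2.commWord F 4 2 t u).map fun p => xm p.1 p.2).prod := by
  have h : chevB2.commWord F 4 2 t u = [] := by
    unfold ChevalleyDatum.commWord
    rw [commTerms_4_2]
    rfl
  rw [h]
  simp only [List.map_cons, List.map_nil, List.prod_cons, List.prod_nil, mul_one]
  apply ext_mulVec
  intro v
  simp only [← Matrix.mulVec_mulVec, Matrix.one_mulVec, xm_mulVec_0, xm_mulVec_1, xm_mulVec_2,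
    xm_mulVec_3, xm_mulVec_4, xm_mulVec_5, xm_mulVec_6, xm_mulVec_7]
  ext i
  fin_cases i <;> simp <;> ring

theorem commTerms_4_5 : chevB2.commTerms 4 5 = ([(6, 1, 1, 1), (7, -1, 1, 2)] : List (ℕ × ℤ × ℕ × ℕ)) := by
  decide +kernel

theorem commW_4_5 (t u : F) :
    xm 5 (-u) * xm 4 (-t) * xm 5 u * xm 4 t
      = ((chevB2.commWord F 4 5 t u).map fun p => xm p.1 p.2).prod := by
  have h : chevB2.commWord F 4 5 t u = [(6, ((1 : ℤ) : F) * (-t) ^ 1 * u ^ 1), (7, ((-1 : ℤ) : F) * (-t) ^ 1 * u ^ 2)] := by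
    unfold ChevalleyDatum.commWord
    rw [commTerms_4_5]
    rfl
  rw [h]
  simp only [List.map_cons, List.map_nil, List.prod_cons, List.prod_nil, mul_one]
  apply ext_mulVec
  intro v
  simp only [← Matrix.mulVec_mulVec, Matrix.one_mulVec, xm_mulVec_0, xm_mulVec_1, xm_mulVec_2,
    xm_mulVec_3, xm_mulVec_4, xm_mulVec_5, xm_mulVec_6, xm_mulVec_7]
  ext i
  fin_cases i <;> simp <;> ring

theorem commTerms_4_6 : chevB2.commTerms 4 6 = ([] : List (ℕ × ℤ × ℕ × ℕ)) := by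
  decide +kernel

theorem commW_4_6 (t u : F) :
    xm 6 (-u) * xm 4 (-t) * xm 6 u * xm 4 t
      = ((chevB2.commWord F 4 6 t u).map fun p => xm p.1 p.2).prod := by
  have h : chevB2.commWord F 4 6 t u = [] := by
    unfold ChevalleyDatum.commWord
    rw [commTerms_4_6]
    rfl
  rw [h]
  simp only [List.map_cons, List.map_nil, List.prod_cons, List.prod_nil, mul_one]
  apply ext_mulVec
  intro v
  simp only [← Matrix.mulVec_mulVec, Matrix.one_mulVec, xm_mulVec_0, xm_mulVec_1, xm_mulVec_2,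
    xm_mulVec_3, xm_mulVec_4, xm_mulVec_5, xm_mulVec_6, xm_mulVec_7]
  ext i
  fin_cases i <;> simp <;> ring

theorem commTerms_4_7 : chevB2.commTerms 4 7 = ([] : List (ℕ × ℤ × ℕ × ℕ)) := by
  decide +kernel

theorem commW_4_7 (t u : F) :
    xm 7 (-u) * xm 4 (-t) * xm 7 u * xm 4 t
      = ((chevB2.commWord F 4 7 t u).map fun p => xm p.1 p.2).prod := by
  have h : chevB2.commWord F 4 7 t u = [] := by
    unfold ChevalleyDatum.commWord
    rw [commTerms_4_7]
    rfl
  rw [h]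
  simp only [List.map_cons, List.map_nil, List.prod_cons, List.prod_nil, mul_one]
  apply ext_mulVec
  intro v
  simp only [← Matrix.mulVec_mulVec, Matrix.one_mulVec, xm_mulVec_0, xm_mulVec_1, xm_mulVec_2,
    xm_mulVec_3, xm_mulVec_4, xm_mulVec_5, xm_mulVec_6, xm_mulVec_7]
  ext i
  fin_cases i <;> simp <;> ring

theorem commTerms_5_0 : chevB2.commTerms 5 0 = ([(1, -1, 1, 1), (3, -1, 2, 1)] : List (ℕ × ℤ × ℕ × ℕ)) := by
  decide +kernel

theorem commW_5_0 (t u : F) :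
    xm 0 (-u) * xm 5 (-t) * xm 0 u * xm 5 t
      = ((chevB2.commWord F 5 0 t u).map fun p => xm p.1 p.2).prod := by
  have h : chevB2.commWord F 5 0 t u = [(1, ((-1 : ℤ) : F) * (-t) ^ 1 * u ^ 1), (3, ((-1 : ℤ) : F) * (-t) ^ 2 * u ^ 1)] := by
    unfold ChevalleyDatum.commWord
    rw [commTerms_5_0]
    rfl
  rw [h]
  simp only [List.map_cons, List.map_nil, List.prod_cons, List.prod_nil, mul_one]
  apply ext_mulVec
  intro v
  simp only [← Matrix.mulVec_mulVec, Matrix.one_mulVec, xm_mulVec_0, xm_mulVec_1, xm_mulVec_2,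
    xm_mulVec_3, xm_mulVec_4, xm_mulVec_5, xm_mulVec_6, xm_mulVec_7]
  ext i
  fin_cases i <;> simp <;> ring

theorem commTerms_5_1 : chevB2.commTerms 5 1 = ([(3, 2, 1, 1)] : List (ℕ × ℤ × ℕ × ℕ)) := by
  decide +kernel

theorem commW_5_1 (t u : F) :
    xm 1 (-u) * xm 5 (-t) * xm 1 u * xm 5 t
      = ((chevB2.commWord F 5 1 t u).map fun p => xm p.1 p.2).prod := by
  have h : chevB2.commWord F 5 1 t u = [(3, ((2 : ℤ) : F) * (-t) ^ 1 * u ^ 1)] := by
    unfold ChevalleyDatum.commWord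
    rw [commTerms_5_1]
    rfl
  rw [h]
  simp only [List.map_cons, List.map_nil, List.prod_cons, List.prod_nil, mul_one]
  apply ext_mulVec
  intro v
  simp only [← Matrix.mulVec_mulVec, Matrix.one_mulVec, xm_mulVec_0, xm_mulVec_1, xm_mulVec_2,
    xm_mulVec_3, xm_mulVec_4, xm_mulVec_5, xm_mulVec_6, xm_mulVec_7]
  ext i
  fin_cases i <;> simp <;> ring

theorem commTerms_5_3 : chevB2.commTerms 5 3 = ([] : List (ℕ × ℤ × ℕ × ℕ)) := by
  decide +kernel

theorem commW_5_3 (t u : F) :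
    xm 3 (-u) * xm 5 (-t) * xm 3 u * xm 5 t
      = ((chevB2.commWord F 5 3 t u).map fun p => xm p.1 p.2).prod := by
  have h : chevB2.commWord F 5 3 t u = [] := by
    unfold ChevalleyDatum.commWord
    rw [commTerms_5_3]
    rfl
  rw [h]
  simp only [List.map_cons, List.map_nil, List.prod_cons, List.prod_nil, mul_one]
  apply ext_mulVec
  intro v
  simp only [← Matrix.mulVec_mulVec, Matrix.one_mulVec, xm_mulVec_0, xm_mulVec_1, xm_mulVec_2,
    xm_mulVec_3, xm_mulVec_4, xm_mulVec_5, xm_mulVec_6, xm_mulVec_7]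
  ext i
  fin_cases i <;> simp <;> ring

theorem commTerms_5_4 : chevB2.commTerms 5 4 = ([(6, -1, 1, 1), (7, -1, 2, 1)] : List (ℕ × ℤ × ℕ × ℕ)) := by
  decide +kernel

theorem commW_5_4 (t u : F) :
    xm 4 (-u) * xm 5 (-t) * xm 4 u * xm 5 t
      = ((chevB2.commWord F 5 4 t u).map fun p => xm p.1 p.2).prod := by
  have h : chevB2.commWord F 5 4 t u = [(6, ((-1 : ℤ) : F) * (-t) ^ 1 * u ^ 1), (7, ((-1 : ℤ) : F) * (-t) ^ 2 * u ^ 1)] := by
    unfold ChevalleyDatum.commWord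
    rw [commTerms_5_4]
    rfl
  rw [h]
  simp only [List.map_cons, List.map_nil, List.prod_cons, List.prod_nil, mul_one]
  apply ext_mulVec
  intro v
  simp only [← Matrix.mulVec_mulVec, Matrix.one_mulVec, xm_mulVec_0, xm_mulVec_1, xm_mulVec_2,
    xm_mulVec_3, xm_mulVec_4, xm_mulVec_5, xm_mulVec_6, xm_mulVec_7]
  ext i
  fin_cases i <;> simp <;> ring

theorem commTerms_5_6 : chevB2.commTerms 5 6 = ([(7, 2, 1, 1)] : List (ℕ × ℤ × ℕ × ℕ)) := by
  decide +kernel

theorem commW_5_6 (t u : F) :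
    xm 6 (-u) * xm 5 (-t) * xm 6 u * xm 5 t
      = ((chevB2.commWord F 5 6 t u).map fun p => xm p.1 p.2).prod := by
  have h : chevB2.commWord F 5 6 t u = [(7, ((2 : ℤ) : F) * (-t) ^ 1 * u ^ 1)] := by
    unfold ChevalleyDatum.commWord
    rw [commTerms_5_6]
    rfl
  rw [h]
  simp only [List.map_cons, List.map_nil, List.prod_cons, List.prod_nil, mul_one]
  apply ext_mulVec
  intro v
  simp only [← Matrix.mulVec_mulVec, Matrix.one_mulVec, xm_mulVec_0, xm_mulVec_1, xm_mulVec_2,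
    xm_mulVec_3, xm_mulVec_4, xm_mulVec_5, xm_mulVec_6, xm_mulVec_7]
  ext i
  fin_cases i <;> simp <;> ring

theorem commTerms_5_7 : chevB2.commTerms 5 7 = ([] : List (ℕ × ℤ × ℕ × ℕ)) := by
  decide +kernel

theorem commW_5_7 (t u : F) :
    xm 7 (-u) * xm 5 (-t) * xm 7 u * xm 5 t
      = ((chevB2.commWord F 5 7 t u).map fun p => xm p.1 p.2).prod := by
  have h : chevB2.commWord F 5 7 t u = [] := by
    unfold ChevalleyDatum.commWord
    rw [commTerms_5_7]
    rfl
  rw [h]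
  simp only [List.map_cons, List.map_nil, List.prod_cons, List.prod_nil, mul_one]
  apply ext_mulVec
  intro v
  simp only [← Matrix.mulVec_mulVec, Matrix.one_mulVec, xm_mulVec_0, xm_mulVec_1, xm_mulVec_2,
    xm_mulVec_3, xm_mulVec_4, xm_mulVec_5, xm_mulVec_6, xm_mulVec_7]
  ext i
  fin_cases i <;> simp <;> ring

theorem commTerms_6_0 : chevB2.commTerms 6 0 = ([(2, 1, 1, 1), (4, 1, 2, 1)] : List (ℕ × ℤ × ℕ × ℕ)) := by
  decide +kernel

theorem commW_6_0 (t u : F) :
    xm 0 (-u) * xm 6 (-t) * xm 0 u * xm 6 t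
      = ((chevB2.commWord F 6 0 t u).map fun p => xm p.1 p.2).prod := by
  have h : chevB2.commWord F 6 0 t u = [(2, ((1 : ℤ) : F) * (-t) ^ 1 * u ^ 1), (4, ((1 : ℤ) : F) * (-t) ^ 2 * u ^ 1)] := by
    unfold ChevalleyDatum.commWord
    rw [commTerms_6_0]
    rfl
  rw [h]
  simp only [List.map_cons, List.map_nil, List.prod_cons, List.prod_nil, mul_one]
  apply ext_mulVec
  intro v
  simp only [← Matrix.mulVec_mulVec, Matrix.one_mulVec, xm_mulVec_0, xm_mulVec_1, xm_mulVec_2,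
    xm_mulVec_3, xm_mulVec_4, xm_mulVec_5, xm_mulVec_6, xm_mulVec_7]
  ext i
  fin_cases i <;> simp <;> ring

theorem commTerms_6_2 : chevB2.commTerms 6 2 = ([(4, 2, 1, 1)] : List (ℕ × ℤ × ℕ × ℕ)) := by
  decide +kernel

theorem commW_6_2 (t u : F) :
    xm 2 (-u) * xm 6 (-t) * xm 2 u * xm 6 t
      = ((chevB2.commWord F 6 2 t u).map fun p => xm p.1 p.2).prod := by
  have h : chevB2.commWord F 6 2 t u = [(4, ((2 : ℤ) : F) * (-t) ^ 1 * u ^ 1)] := by
    unfold ChevalleyDatum.commWord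
    rw [commTerms_6_2]
    rfl
  rw [h]
  simp only [List.map_cons, List.map_nil, List.prod_cons, List.prod_nil, mul_one]
  apply ext_mulVec
  intro v
  simp only [← Matrix.mulVec_mulVec, Matrix.one_mulVec, xm_mulVec_0, xm_mulVec_1, xm_mulVec_2,
    xm_mulVec_3, xm_mulVec_4, xm_mulVec_5, xm_mulVec_6, xm_mulVec_7]
  ext i
  fin_cases i <;> simp <;> ring

theorem commTerms_6_3 : chevB2.commTerms 6 3 = ([(5, -1, 1, 1), (7, 1, 2, 1)] : List (ℕ × ℤ × ℕ × ℕ)) := by
  decide +kernel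

theorem commW_6_3 (t u : F) :
    xm 3 (-u) * xm 6 (-t) * xm 3 u * xm 6 t
      = ((chevB2.commWord F 6 3 t u).map fun p => xm p.1 p.2).prod := by
  have h : chevB2.commWord F 6 3 t u = [(5, ((-1 : ℤ) : F) * (-t) ^ 1 * u ^ 1), (7, ((1 : ℤ) : F) * (-t) ^ 2 * u ^ 1)] := by
    unfold ChevalleyDatum.commWord
    rw [commTerms_6_3]
    rfl
  rw [h]
  simp only [List.map_cons, List.map_nil, List.prod_cons, List.prod_nil, mul_one]
  apply ext_mulVec
  intro v
  simp only [← Matrix.mulVec_mulVec, Matrix.one_mulVec, xm_mulVec_0, xm_mulVec_1, xm_mulVec_2,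
    xm_mulVec_3, xm_mulVec_4, xm_mulVec_5, xm_mulVec_6, xm_mulVec_7]
  ext i
  fin_cases i <;> simp <;> ring

theorem commTerms_6_4 : chevB2.commTerms 6 4 = ([] : List (ℕ × ℤ × ℕ × ℕ)) := by
  decide +kernel

theorem commW_6_4 (t u : F) :
    xm 4 (-u) * xm 6 (-t) * xm 4 u * xm 6 t
      = ((chevB2.commWord F 6 4 t u).map fun p => xm p.1 p.2).prod := by
  have h : chevB2.commWord F 6 4 t u = [] := by
    unfold ChevalleyDatum.commWord
    rw [commTerms_6_4]
    rfl
  rw [h]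
  simp only [List.map_cons, List.map_nil, List.prod_cons, List.prod_nil, mul_one]
  apply ext_mulVec
  intro v
  simp only [← Matrix.mulVec_mulVec, Matrix.one_mulVec, xm_mulVec_0, xm_mulVec_1, xm_mulVec_2,
    xm_mulVec_3, xm_mulVec_4, xm_mulVec_5, xm_mulVec_6, xm_mulVec_7]
  ext i
  fin_cases i <;> simp <;> ring

theorem commTerms_6_5 : chevB2.commTerms 6 5 = ([(7, -2, 1, 1)] : List (ℕ × ℤ × ℕ × ℕ)) := by
  decide +kernel

theorem commW_6_5 (t u : F) :
    xm 5 (-u) * xm 6 (-t) * xm 5 u * xm 6 t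
      = ((chevB2.commWord F 6 5 t u).map fun p => xm p.1 p.2).prod := by
  have h : chevB2.commWord F 6 5 t u = [(7, ((-2 : ℤ) : F) * (-t) ^ 1 * u ^ 1)] := by
    unfold ChevalleyDatum.commWord
    rw [commTerms_6_5]
    rfl
  rw [h]
  simp only [List.map_cons, List.map_nil, List.prod_cons, List.prod_nil, mul_one]
  apply ext_mulVec
  intro v
  simp only [← Matrix.mulVec_mulVec, Matrix.one_mulVec, xm_mulVec_0, xm_mulVec_1, xm_mulVec_2,
    xm_mulVec_3, xm_mulVec_4, xm_mulVec_5, xm_mulVec_6, xm_mulVec_7]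
  ext i
  fin_cases i <;> simp <;> ring

theorem commTerms_6_7 : chevB2.commTerms 6 7 = ([] : List (ℕ × ℤ × ℕ × ℕ)) := by
  decide +kernel

theorem commW_6_7 (t u : F) :
    xm 7 (-u) * xm 6 (-t) * xm 7 u * xm 6 t
      = ((chevB2.commWord F 6 7 t u).map fun p => xm p.1 p.2).prod := by
  have h : chevB2.commWord F 6 7 t u = [] := by
    unfold ChevalleyDatum.commWord
    rw [commTerms_6_7]
    rfl
  rw [h]
  simp only [List.map_cons, List.map_nil, List.prod_cons, List.prod_nil, mul_one]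
  apply ext_mulVec
  intro v
  simp only [← Matrix.mulVec_mulVec, Matrix.one_mulVec, xm_mulVec_0, xm_mulVec_1, xm_mulVec_2,
    xm_mulVec_3, xm_mulVec_4, xm_mulVec_5, xm_mulVec_6, xm_mulVec_7]
  ext i
  fin_cases i <;> simp <;> ring

theorem commTerms_7_1 : chevB2.commTerms 7 1 = ([(5, 1, 1, 1), (3, 1, 1, 2)] : List (ℕ × ℤ × ℕ × ℕ)) := by
  decide +kernel

theorem commW_7_1 (t u : F) :
    xm 1 (-u) * xm 7 (-t) * xm 1 u * xm 7 t
      = ((chevB2.commWord F 7 1 t u).map fun p => xm p.1 p.2).prod := by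
  have h : chevB2.commWord F 7 1 t u = [(5, ((1 : ℤ) : F) * (-t) ^ 1 * u ^ 1), (3, ((1 : ℤ) : F) * (-t) ^ 1 * u ^ 2)] := by
    unfold ChevalleyDatum.commWord
    rw [commTerms_7_1]
    rfl
  rw [h]
  simp only [List.map_cons, List.map_nil, List.prod_cons, List.prod_nil, mul_one]
  apply ext_mulVec
  intro v
  simp only [← Matrix.mulVec_mulVec, Matrix.one_mulVec, xm_mulVec_0, xm_mulVec_1, xm_mulVec_2,
    xm_mulVec_3, xm_mulVec_4, xm_mulVec_5, xm_mulVec_6, xm_mulVec_7]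
  ext i
  fin_cases i <;> simp <;> ring

theorem commTerms_7_2 : chevB2.commTerms 7 2 = ([(6, -1, 1, 1), (4, -1, 1, 2)] : List (ℕ × ℤ × ℕ × ℕ)) := by
  decide +kernel

theorem commW_7_2 (t u : F) :
    xm 2 (-u) * xm 7 (-t) * xm 2 u * xm 7 t
      = ((chevB2.commWord F 7 2 t u).map fun p => xm p.1 p.2).prod := by
  have h : chevB2.commWord F 7 2 t u = [(6, ((-1 : ℤ) : F) * (-t) ^ 1 * u ^ 1), (4, ((-1 : ℤ) : F) * (-t) ^ 1 * u ^ 2)] := by
    unfold ChevalleyDatum.commWord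
    rw [commTerms_7_2]
    rfl
  rw [h]
  simp only [List.map_cons, List.map_nil, List.prod_cons, List.prod_nil, mul_one]
  apply ext_mulVec
  intro v
  simp only [← Matrix.mulVec_mulVec, Matrix.one_mulVec, xm_mulVec_0, xm_mulVec_1, xm_mulVec_2,
    xm_mulVec_3, xm_mulVec_4, xm_mulVec_5, xm_mulVec_6, xm_mulVec_7]
  ext i
  fin_cases i <;> simp <;> ring

theorem commTerms_7_3 : chevB2.commTerms 7 3 = ([] : List (ℕ × ℤ × ℕ × ℕ)) := by
  decide +kernel

theorem commW_7_3 (t u : F) :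
    xm 3 (-u) * xm 7 (-t) * xm 3 u * xm 7 t
      = ((chevB2.commWord F 7 3 t u).map fun p => xm p.1 p.2).prod := by
  have h : chevB2.commWord F 7 3 t u = [] := by
    unfold ChevalleyDatum.commWord
    rw [commTerms_7_3]
    rfl
  rw [h]
  simp only [List.map_cons, List.map_nil, List.prod_cons, List.prod_nil, mul_one]
  apply ext_mulVec
  intro v
  simp only [← Matrix.mulVec_mulVec, Matrix.one_mulVec, xm_mulVec_0, xm_mulVec_1, xm_mulVec_2,
    xm_mulVec_3, xm_mulVec_4, xm_mulVec_5, xm_mulVec_6, xm_mulVec_7]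
  ext i
  fin_cases i <;> simp <;> ring

theorem commTerms_7_4 : chevB2.commTerms 7 4 = ([] : List (ℕ × ℤ × ℕ × ℕ)) := by
  decide +kernel

theorem commW_7_4 (t u : F) :
    xm 4 (-u) * xm 7 (-t) * xm 4 u * xm 7 t
      = ((chevB2.commWord F 7 4 t u).map fun p => xm p.1 p.2).prod := by
  have h : chevB2.commWord F 7 4 t u = [] := by
    unfold ChevalleyDatum.commWord
    rw [commTerms_7_4]
    rfl
  rw [h]
  simp only [List.map_cons, List.map_nil, List.prod_cons, List.prod_nil, mul_one]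
  apply ext_mulVec
  intro v
  simp only [← Matrix.mulVec_mulVec, Matrix.one_mulVec, xm_mulVec_0, xm_mulVec_1, xm_mulVec_2,
    xm_mulVec_3, xm_mulVec_4, xm_mulVec_5, xm_mulVec_6, xm_mulVec_7]
  ext i
  fin_cases i <;> simp <;> ring

theorem commTerms_7_5 : chevB2.commTerms 7 5 = ([] : List (ℕ × ℤ × ℕ × ℕ)) := by
  decide +kernel

theorem commW_7_5 (t u : F) :
    xm 5 (-u) * xm 7 (-t) * xm 5 u * xm 7 t
      = ((chevB2.commWord F 7 5 t u).map fun p => xm p.1 p.2).prod := by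
  have h : chevB2.commWord F 7 5 t u = [] := by
    unfold ChevalleyDatum.commWord
    rw [commTerms_7_5]
    rfl
  rw [h]
  simp only [List.map_cons, List.map_nil, List.prod_cons, List.prod_nil, mul_one]
  apply ext_mulVec
  intro v
  simp only [← Matrix.mulVec_mulVec, Matrix.one_mulVec, xm_mulVec_0, xm_mulVec_1, xm_mulVec_2,
    xm_mulVec_3, xm_mulVec_4, xm_mulVec_5, xm_mulVec_6, xm_mulVec_7]
  ext i
  fin_cases i <;> simp <;> ring

theorem commTerms_7_6 : chevB2.commTerms 7 6 = ([] : List (ℕ × ℤ × ℕ × ℕ)) := by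
  decide +kernel

theorem commW_7_6 (t u : F) :
    xm 6 (-u) * xm 7 (-t) * xm 6 u * xm 7 t
      = ((chevB2.commWord F 7 6 t u).map fun p => xm p.1 p.2).prod := by
  have h : chevB2.commWord F 7 6 t u = [] := by
    unfold ChevalleyDatum.commWord
    rw [commTerms_7_6]
    rfl
  rw [h]
  simp only [List.map_cons, List.map_nil, List.prod_cons, List.prod_nil, mul_one]
  apply ext_mulVec
  intro v
  simp only [← Matrix.mulVec_mulVec, Matrix.one_mulVec, xm_mulVec_0, xm_mulVec_1, xm_mulVec_2,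
    xm_mulVec_3, xm_mulVec_4, xm_mulVec_5, xm_mulVec_6, xm_mulVec_7]
  ext i
  fin_cases i <;> simp <;> ring

end Cfsg.Agent.Lib.Helper5.B2Orth
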