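import Mathlib
import Cfsg.Prelude.Def_ChevStructure
import Cfsg.Prelude.Def_ChevB2
import Cfsg.Prelude.Def_Classical
import Cfsg.Agent.Lib.Helper5.B2Orth.CommA
import Cfsg.Agent.Lib.Helper5.B2Orth.CommB

set_option autoImplicit false
set_option linter.unusedSimpArgs false
set_option linter.unreachableTactic false
set_option linter.unusedTactic false

/-!
The commutator formula in uniform shape, and the elements `h_r(t)` of `O₅`.
-/

namespace Cfsg.Agent.Lib.Helper5.B2Orth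

open Cfsg Cfsg.Lie Matrix

variable {F : Type*} [Field F]

theorem neg_b2 (r : ℕ) (hr : r < 8) : chevB2.neg r = 7 - r := by
  interval_cases r <;> rfl

/-- Chevalley's commutator formula for the root elements of `O₅` -/
theorem xm_comm (r s : ℕ) (hr : r < 8) (hs : s < 8) (h1 : s ≠ r) (h2 : s + r ≠ 7) (t u : F) :
    xm s (-u) * xm r (-t) * xm s u * xm r t
      = ((chevB2.commWord F r s t u).map fun p => xm p.1 p.2).prod := by
  interval_cases r <;> interval_cases s
  · omega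
  · exact commW_0_1 t u
  · exact commW_0_2 t u
  · exact commW_0_3 t u
  · exact commW_0_4 t u
  · exact commW_0_5 t u
  · exact commW_0_6 t u
  · omega
  · exact commW_1_0 t u
  · omega
  · exact commW_1_2 t u
  · exact commW_1_3 t u
  · exact commW_1_4 t u
  · exact commW_1_5 t u
  · omega
  · exact commW_1_7 t u
  · exact commW_2_0 t u
  · exact commW_2_1 t u
  · omega
  · exact commW_2_3 t u
  · exact commW_2_4 t u
  · omega
  · exact commW_2_6 t u
  · exact commW_2_7 t u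
  · exact commW_3_0 t u
  · exact commW_3_1 t u
  · exact commW_3_2 t u
  · omega
  · omega
  · exact commW_3_5 t u
  · exact commW_3_6 t u
  · exact commW_3_7 t u
  · exact commW_4_0 t u
  · exact commW_4_1 t u
  · exact commW_4_2 t u
  · omega
  · omega
  · exact commW_4_5 t u
  · exact commW_4_6 t u
  · exact commW_4_7 t u
  · exact commW_5_0 t u
  · exact commW_5_1 t u
  · omega
  · exact commW_5_3 t u
  · exact commW_5_4 t u
  · omega
  · exact commW_5_6 t u
  · exact commW_5_7 t u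
  · exact commW_6_0 t u
  · omega
  · exact commW_6_2 t u
  · exact commW_6_3 t u
  · exact commW_6_4 t u
  · exact commW_6_5 t u
  · omega
  · exact commW_6_7 t u
  · omega
  · exact commW_7_1 t u
  · exact commW_7_2 t u
  · exact commW_7_3 t u
  · exact commW_7_4 t u
  · exact commW_7_5 t u
  · exact commW_7_6 t u
  · omega

/-- the diagonal of `h_r(t)` -/
def hdiag (r : ℕ) (t : F) : Fin 5 → F :=
  match r with
  | 0 => ![1, t⁻¹, t⁻¹, t, t]
  | 1 => ![1, (t ^ 2)⁻¹, 1, t ^ 2, 1]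
  | 2 => ![1, 1, (t ^ 2)⁻¹, 1, t ^ 2]
  | 3 => ![1, t⁻¹, t, t, t⁻¹]
  | 4 => ![1, t, t⁻¹, t⁻¹, t]
  | 5 => ![1, 1, t ^ 2, 1, (t ^ 2)⁻¹]
  | 6 => ![1, t ^ 2, 1, (t ^ 2)⁻¹, 1]
  | 7 => ![1, t, t, t⁻¹, t⁻¹]
  | _ => 1

theorem hdiag_0 (t : F) : hdiag 0 t = ![1, t⁻¹, t⁻¹, t, t] := rfl

theorem hdiag_1 (t : F) : hdiag 1 t = ![1, (t ^ 2)⁻¹, 1, t ^ 2, 1] := rfl

theorem hdiag_2 (t : F) : hdiag 2 t = ![1, 1, (t ^ 2)⁻¹, 1, t ^ 2] := rfl

theorem hdiag_3 (t : F) : hdiag 3 t = ![1, t⁻¹, t, t, t⁻¹] := rfl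

theorem hdiag_4 (t : F) : hdiag 4 t = ![1, t, t⁻¹, t⁻¹, t] := rfl

theorem hdiag_5 (t : F) : hdiag 5 t = ![1, 1, t ^ 2, 1, (t ^ 2)⁻¹] := rfl

theorem hdiag_6 (t : F) : hdiag 6 t = ![1, t ^ 2, 1, (t ^ 2)⁻¹, 1] := rfl

theorem hdiag_7 (t : F) : hdiag 7 t = ![1, t, t, t⁻¹, t⁻¹] := rfl

theorem hdiag_mul (r : ℕ) (t u : F) : hdiag r t * hdiag r u = hdiag r (t * u) := by
  by_cases hr : r < 8
  · interval_cases r <;>
    · simp only [hdiag_0, hdiag_1, hdiag_2, hdiag_3, hdiag_4, hdiag_5, hdiag_6, hdiag_7]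
      ext i
      fin_cases i <;> simp [mul_pow, mul_inv, mul_comm]
  · have h : ∀ t : F, hdiag r t = 1 := by
      intro t
      unfold hdiag
      split <;> first | omega | rfl
    rw [h, h, h, mul_one]


set_option maxHeartbeats 800000 in
theorem hWord_prod_0 (t : F) (ht : t ≠ 0) :
    ((chevB2.hWord 0 t).map fun p => xm p.1 p.2).prod = Matrix.diagonal (hdiag 0 t) := by
  have e : chevB2.hWord 0 t
      = [(0, t), (7, -t⁻¹), (0, t), (0, -1), (7, -(-1 : F)⁻¹), (0, -1)] := rfl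
  rw [e]
  have ht2 : t ^ 2 ≠ 0 := pow_ne_zero 2 ht
  simp only [List.map_cons, List.map_nil, List.prod_cons, List.prod_nil, mul_one, hdiag_0]
  apply ext_mulVec
  intro v
  simp only [← Matrix.mulVec_mulVec, xm_mulVec_0, xm_mulVec_7]
  ext i
  fin_cases i <;> simp [Matrix.mulVec_diagonal] <;> field_simp <;> ring

set_option maxHeartbeats 800000 in
theorem hWord_prod_1 (t : F) (ht : t ≠ 0) :
    ((chevB2.hWord 1 t).map fun p => xm p.1 p.2).prod = Matrix.diagonal (hdiag 1 t) := by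
  have e : chevB2.hWord 1 t
      = [(1, t), (6, -t⁻¹), (1, t), (1, -1), (6, -(-1 : F)⁻¹), (1, -1)] := rfl
  rw [e]
  have ht2 : t ^ 2 ≠ 0 := pow_ne_zero 2 ht
  simp only [List.map_cons, List.map_nil, List.prod_cons, List.prod_nil, mul_one, hdiag_1]
  apply ext_mulVec
  intro v
  simp only [← Matrix.mulVec_mulVec, xm_mulVec_1, xm_mulVec_6]
  ext i
  fin_cases i <;> simp [Matrix.mulVec_diagonal] <;> field_simp <;> ring

set_option maxHeartbeats 800000 in
theorem hWord_prod_2 (t : F) (ht : t ≠ 0) :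
    ((chevB2.hWord 2 t).map fun p => xm p.1 p.2).prod = Matrix.diagonal (hdiag 2 t) := by
  have e : chevB2.hWord 2 t
      = [(2, t), (5, -t⁻¹), (2, t), (2, -1), (5, -(-1 : F)⁻¹), (2, -1)] := rfl
  rw [e]
  have ht2 : t ^ 2 ≠ 0 := pow_ne_zero 2 ht
  simp only [List.map_cons, List.map_nil, List.prod_cons, List.prod_nil, mul_one, hdiag_2]
  apply ext_mulVec
  intro v
  simp only [← Matrix.mulVec_mulVec, xm_mulVec_2, xm_mulVec_5]
  ext i
  fin_cases i <;> simp [Matrix.mulVec_diagonal] <;> field_simp <;> ring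

set_option maxHeartbeats 800000 in
theorem hWord_prod_3 (t : F) (ht : t ≠ 0) :
    ((chevB2.hWord 3 t).map fun p => xm p.1 p.2).prod = Matrix.diagonal (hdiag 3 t) := by
  have e : chevB2.hWord 3 t
      = [(3, t), (4, -t⁻¹), (3, t), (3, -1), (4, -(-1 : F)⁻¹), (3, -1)] := rfl
  rw [e]
  have ht2 : t ^ 2 ≠ 0 := pow_ne_zero 2 ht
  simp only [List.map_cons, List.map_nil, List.prod_cons, List.prod_nil, mul_one, hdiag_3]
  apply ext_mulVec
  intro v
  simp only [← Matrix.mulVec_mulVec, xm_mulVec_3, xm_mulVec_4]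
  ext i
  fin_cases i <;> simp [Matrix.mulVec_diagonal] <;> field_simp <;> ring

set_option maxHeartbeats 800000 in
theorem hWord_prod_4 (t : F) (ht : t ≠ 0) :
    ((chevB2.hWord 4 t).map fun p => xm p.1 p.2).prod = Matrix.diagonal (hdiag 4 t) := by
  have e : chevB2.hWord 4 t
      = [(4, t), (3, -t⁻¹), (4, t), (4, -1), (3, -(-1 : F)⁻¹), (4, -1)] := rfl
  rw [e]
  have ht2 : t ^ 2 ≠ 0 := pow_ne_zero 2 ht
  simp only [List.map_cons, List.map_nil, List.prod_cons, List.prod_nil, mul_one, hdiag_4]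
  apply ext_mulVec
  intro v
  simp only [← Matrix.mulVec_mulVec, xm_mulVec_4, xm_mulVec_3]
  ext i
  fin_cases i <;> simp [Matrix.mulVec_diagonal] <;> field_simp <;> ring

set_option maxHeartbeats 800000 in
theorem hWord_prod_5 (t : F) (ht : t ≠ 0) :
    ((chevB2.hWord 5 t).map fun p => xm p.1 p.2).prod = Matrix.diagonal (hdiag 5 t) := by
  have e : chevB2.hWord 5 t
      = [(5, t), (2, -t⁻¹), (5, t), (5, -1), (2, -(-1 : F)⁻¹), (5, -1)] := rfl
  rw [e]
  have ht2 : t ^ 2 ≠ 0 := pow_ne_zero 2 ht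
  simp only [List.map_cons, List.map_nil, List.prod_cons, List.prod_nil, mul_one, hdiag_5]
  apply ext_mulVec
  intro v
  simp only [← Matrix.mulVec_mulVec, xm_mulVec_5, xm_mulVec_2]
  ext i
  fin_cases i <;> simp [Matrix.mulVec_diagonal] <;> field_simp <;> ring

set_option maxHeartbeats 800000 in
theorem hWord_prod_6 (t : F) (ht : t ≠ 0) :
    ((chevB2.hWord 6 t).map fun p => xm p.1 p.2).prod = Matrix.diagonal (hdiag 6 t) := by
  have e : chevB2.hWord 6 t
      = [(6, t), (1, -t⁻¹), (6, t), (6, -1), (1, -(-1 : F)⁻¹), (6, -1)] := rfl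
  rw [e]
  have ht2 : t ^ 2 ≠ 0 := pow_ne_zero 2 ht
  simp only [List.map_cons, List.map_nil, List.prod_cons, List.prod_nil, mul_one, hdiag_6]
  apply ext_mulVec
  intro v
  simp only [← Matrix.mulVec_mulVec, xm_mulVec_6, xm_mulVec_1]
  ext i
  fin_cases i <;> simp [Matrix.mulVec_diagonal] <;> field_simp <;> ring

set_option maxHeartbeats 800000 in
theorem hWord_prod_7 (t : F) (ht : t ≠ 0) :
    ((chevB2.hWord 7 t).map fun p => xm p.1 p.2).prod = Matrix.diagonal (hdiag 7 t) := by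
  have e : chevB2.hWord 7 t
      = [(7, t), (0, -t⁻¹), (7, t), (7, -1), (0, -(-1 : F)⁻¹), (7, -1)] := rfl
  rw [e]
  have ht2 : t ^ 2 ≠ 0 := pow_ne_zero 2 ht
  simp only [List.map_cons, List.map_nil, List.prod_cons, List.prod_nil, mul_one, hdiag_7]
  apply ext_mulVec
  intro v
  simp only [← Matrix.mulVec_mulVec, xm_mulVec_7, xm_mulVec_0]
  ext i
  fin_cases i <;> simp [Matrix.mulVec_diagonal] <;> field_simp <;> ring

/-- the matrix of the word `h_r(t)` -/
theorem hWord_prod (r : ℕ) (hr : r < 8) (t : F) (ht : t ≠ 0) :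
    ((chevB2.hWord r t).map fun p => xm p.1 p.2).prod = Matrix.diagonal (hdiag r t) := by
  interval_cases r
  · exact hWord_prod_0 t ht
  · exact hWord_prod_1 t ht
  · exact hWord_prod_2 t ht
  · exact hWord_prod_3 t ht
  · exact hWord_prod_4 t ht
  · exact hWord_prod_5 t ht
  · exact hWord_prod_6 t ht
  · exact hWord_prod_7 t ht

end Cfsg.Agent.Lib.Helper5.B2Orth
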