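import Mathlib
import Cfsg.Prelude.Def_ChevStructure
import Cfsg.Prelude.Def_ChevB2
import Cfsg.Prelude.Def_Classical
import Cfsg.Agent.Lib.Helper5.B2Orth.Rel
import Cfsg.Agent.Lib.Helper5.StPres.FromPres

set_option autoImplicit false

/-!
The subgroup `E` of `O₅` generated by the root elements, as a quotient of the Steinberg group of
type `B₂`.
-/

namespace Cfsg.Agent.Lib.Helper5.B2Orth

open Cfsg Cfsg.Lie Matrix Cfsg.Agent.Lib.Helper5.StPres Cfsg.Agent.Lib.Helper5.ChevStruct

variable {F : Type*} [Field F]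

/-- the root elements as invertible matrices -/
def xg (r : ℕ) (t : F) : GL (Fin 5) F :=
  ⟨xm r t, xm r (-t), by rw [xm_add, add_neg_cancel, xm_zero],
    by rw [xm_add, neg_add_cancel, xm_zero]⟩

theorem xg_mem (r : ℕ) (t : F) : xg r t ∈ isometryGroup F (Q5 (F := F)) := by
  intro u _
  exact xm_isom r t u

/-- the orthogonal group `O₅` -/
abbrev O5 (F : Type*) [Field F] : Type _ := ↥(isometryGroup F (Q5 (F := F)))

/-- the root elements in `O₅` -/
def xO (r : ℕ) (t : F) : O5 F := ⟨xg r t, xg_mem r t⟩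

theorem xO_val (r : ℕ) (t : F) : (((xO r t : O5 F) : GL (Fin 5) F) : Matrix (Fin 5) (Fin 5) F)
    = xm r t := rfl

theorem xO_add (r : ℕ) (t u : F) : xO r t * xO r u = xO r (t + u) := by
  apply Subtype.ext
  apply Units.ext
  exact xm_add r t u

theorem xO_zero (r : ℕ) : xO r (0 : F) = 1 := by
  apply Subtype.ext
  apply Units.ext
  exact xm_zero r

theorem xO_inv (r : ℕ) (t : F) : (xO r t)⁻¹ = xO r (-t) := by
  rw [inv_eq_iff_mul_eq_one, xO_add, add_neg_cancel, xO_zero]

/-- the subgroup generated by the root elements -/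
def E5 (F : Type*) [Field F] : Subgroup (O5 F) :=
  Subgroup.closure {g | ∃ (r : ℕ) (t : F), r < 8 ∧ g = xO r t}

theorem xO_mem (r : ℕ) (t : F) : xO r t ∈ E5 F := by
  by_cases hr : r < 8
  · exact Subgroup.subset_closure ⟨r, t, hr, rfl⟩
  · have : xO r t = 1 := by
      apply Subtype.ext
      apply Units.ext
      show xm r t = 1
      unfold xm
      split <;> first | omega | rfl
    rw [this]
    exact one_mem _

/-- the root elements in `E` -/
def xE (r : ℕ) (t : F) : ↥(E5 F) := ⟨xO r t, xO_mem r t⟩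

/-- the matrix of a word -/
theorem word_val (w : List (ℕ × F)) :
    ((((w.map fun p => xE p.1 p.2).prod : ↥(E5 F)) : O5 F) : GL (Fin 5) F).val
      = (w.map fun p => xm p.1 p.2).prod := by
  induction w with
  | nil => simp
  | cons p w ih =>
    rw [List.map_cons, List.prod_cons, List.map_cons, List.prod_cons, Subgroup.coe_mul,
      Subgroup.coe_mul, Units.val_mul, ih]
    rfl

/-- the root elements of `O₅` satisfy Steinberg's relations (R1), (R2) -/
def gensE (F : Type*) [Field F] : RootGens chevB2 F ↥(E5 F) where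
  X := xE
  X_add := by
    intro r t u _
    apply Subtype.ext
    exact xO_add r t u
  X_comm := by
    intro r s t u hr hs h1 h2
    have hr' : r < 8 := hr
    have hs' : s < 8 := hs
    have h2' : s + r ≠ 7 := by
      rw [neg_b2 r hr'] at h2
      omega
    apply Subtype.ext
    apply Subtype.ext
    apply Units.ext
    rw [word_val, ← xm_comm r s hr' hs' h1 h2' t u]
    have e1 : (xE s u : ↥(E5 F))⁻¹ = xE s (-u) := by
      apply Subtype.ext
      exact xO_inv s u
    have e2 : (xE r t : ↥(E5 F))⁻¹ = xE r (-t) := by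
      apply Subtype.ext
      exact xO_inv r t
    rw [e1, e2]
    rfl
  gen := by
    rw [eq_top_iff]
    rintro ⟨g, hg⟩ -
    have key : ∀ g : O5 F, ∀ hg : g ∈ E5 F, (⟨g, hg⟩ : ↥(E5 F)) ∈ Subgroup.closure
        {g : ↥(E5 F) | ∃ (r : ℕ) (t : F), r < chevB2.nroots ∧ g = xE r t} := by
      intro g hg
      unfold E5 at hg
      induction hg using Subgroup.closure_induction with
      | mem y hy =>
        obtain ⟨r, t, hr, rfl⟩ := hy
        exact Subgroup.subset_closure ⟨r, t, hr, rfl⟩
      | one => exact one_mem _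
      | mul a b ha hb iha ihb =>
        have : (⟨a * b, mul_mem ha hb⟩ : ↥(E5 F)) = ⟨a, ha⟩ * ⟨b, hb⟩ := rfl
        rw [this]
        exact mul_mem iha ihb
      | inv a ha iha =>
        have : (⟨a⁻¹, inv_mem ha⟩ : ↥(E5 F)) = (⟨a, ha⟩ : ↥(E5 F))⁻¹ := rfl
        rw [this]
        exact inv_mem iha
    exact key g hg

theorem gensE_hR3 (r : ℕ) (t₁ t₂ : F) (hr : r < chevB2.nroots) (h1 : t₁ ≠ 0) (h2 : t₂ ≠ 0) :
    (gensE F).hbar r t₁ * (gensE F).hbar r t₂ = (gensE F).hbar r (t₁ * t₂) := by
  have hr' : r < 8 := hr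
  apply Subtype.ext
  apply Subtype.ext
  apply Units.ext
  rw [Subgroup.coe_mul, Subgroup.coe_mul, Units.val_mul]
  unfold RootGens.hbar RootGens.word
  show ((((chevB2.hWord r t₁).map fun p => xE p.1 p.2).prod : ↥(E5 F)) : O5 F).val.val
      * ((((chevB2.hWord r t₂).map fun p => xE p.1 p.2).prod : ↥(E5 F)) : O5 F).val.val
      = ((((chevB2.hWord r (t₁ * t₂)).map fun p => xE p.1 p.2).prod : ↥(E5 F)) : O5 F).val.val
  rw [word_val, word_val, word_val, hWord_prod r hr' t₁ h1, hWord_prod r hr' t₂ h2,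
    hWord_prod r hr' (t₁ * t₂) (mul_ne_zero h1 h2), Matrix.diagonal_mul_diagonal]
  congr 1
  funext i
  exact congrFun (hdiag_mul r t₁ t₂) i

/-- the homomorphism from the Steinberg group onto `E` -/
noncomputable def stToE (F : Type*) [Field F] : chevB2.SteinbergGroup F →* ↥(E5 F) :=
  (gensE F).fromSt (by simp) gensE_hR3

theorem stToE_stGen (r : ℕ) (hr : r < 8) (t : F) : stToE F (chevB2.stGen F r t) = xE r t :=
  (gensE F).fromSt_stGen (by simp) gensE_hR3 r hr t

theorem stToE_surjective : Function.Surjective (stToE F) := by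
  rw [← MonoidHom.range_eq_top, eq_top_iff, ← (gensE F).gen, Subgroup.closure_le]
  rintro g ⟨r, t, hr, rfl⟩
  exact ⟨chevB2.stGen F r t, stToE_stGen r hr t⟩

end Cfsg.Agent.Lib.Helper5.B2Orth
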