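import Mathlib
import Cfsg.Prelude.Def_Classical
import Cfsg.Agent.Lib.Helper5.B2Orth.Gens

set_option autoImplicit false
set_option linter.unusedSimpArgs false
set_option linter.unreachableTactic false
set_option linter.unusedTactic false

/-!
The action of `O₅` on column vectors: transitivity statements for the subgroup `E` generated by
the root elements.
-/

namespace Cfsg.Agent.Lib.Helper5.B2Orth

open Cfsg Cfsg.Lie Matrix

variable {F : Type*} [Field F]

/-- the action on column vectors -/
def act (g : O5 F) (v : Fin 5 → F) : Fin 5 → F := ((g : GL (Fin 5) F) : Matrix (Fin 5) (Fin 5) F) *ᵥ v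

theorem act_mul (g h : O5 F) (v : Fin 5 → F) : act (g * h) v = act g (act h v) := by
  unfold act
  rw [Subgroup.coe_mul, Units.val_mul, Matrix.mulVec_mulVec]

theorem act_one (v : Fin 5 → F) : act (1 : O5 F) v = v := by
  unfold act
  simp

theorem act_inv_act (g : O5 F) (v : Fin 5 → F) : act g⁻¹ (act g v) = v := by
  rw [← act_mul, inv_mul_cancel, act_one]

theorem act_add (g : O5 F) (u v : Fin 5 → F) : act g (u + v) = act g u + act g v :=
  Matrix.mulVec_add _ u v

theorem act_smul (g : O5 F) (c : F) (v : Fin 5 → F) : act g (c • v) = c • act g v :=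
  Matrix.mulVec_smul _ c v

theorem act_zero (g : O5 F) : act g (0 : Fin 5 → F) = 0 := Matrix.mulVec_zero _

theorem Q5_act (g : O5 F) (v : Fin 5 → F) : Q5 (act g v) = Q5 v := g.2 v v

theorem act_xO (r : ℕ) (t : F) (v : Fin 5 → F) : act (xO r t) v = xm r t *ᵥ v := rfl

/-- the polar form -/
def B5 (u v : Fin 5 → F) : F := 2 * u 0 * v 0 + u 1 * v 3 + u 3 * v 1 + u 2 * v 4 + u 4 * v 2

theorem Q5_add (u v : Fin 5 → F) : Q5 (u + v) = Q5 u + Q5 v + B5 u v := by
  unfold Q5 B5
  simp only [Pi.add_apply]
  ring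

theorem B5_act (g : O5 F) (u v : Fin 5 → F) : B5 (act g u) (act g v) = B5 u v := by
  have h1 := Q5_add (act g u) (act g v)
  rw [← act_add, Q5_act, Q5_act, Q5_act, Q5_add] at h1
  exact (add_left_cancel h1).symm

/-- the standard basis -/
def bv (j : Fin 5) : Fin 5 → F := Pi.single j 1

theorem act_ne_zero (g : O5 F) (v : Fin 5 → F) (hv : v ≠ 0) : act g v ≠ 0 := by
  intro h
  apply hv
  rw [← act_inv_act g v, h, act_zero]

theorem bv_eq (j : Fin 5) : (bv j : Fin 5 → F) = fun i => if i = j then 1 else 0 := by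
  funext i
  unfold bv
  rw [Pi.single_apply]

/-- a vector as a literal -/
theorem vec_eta (v : Fin 5 → F) : v = ![v 0, v 1, v 2, v 3, v 4] := by
  funext i
  fin_cases i <;> rfl

end Cfsg.Agent.Lib.Helper5.B2Orth
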