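import Mathlib
import Cfsg.Prelude.Def_Classical
import Cfsg.Agent.Lib.Helper5.B2Orth.Act

set_option autoImplicit false
set_option linter.unusedSimpArgs false
set_option linter.unreachableTactic false
set_option linter.unusedTactic false

/-!
Transitivity lemmas for the subgroup `E` of `O₅` generated by the root elements.
-/

namespace Cfsg.Agent.Lib.Helper5.B2Orth

open Cfsg Cfsg.Lie Matrix

variable {F : Type*} [Field F]

/-- a singular non-zero vector can be moved so that its `e₁`-coordinate is non-zero -/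
theorem exists_coord_one_ne (c : Fin 5 → F) (hc : c ≠ 0) (hQ : Q5 c = 0) :
    ∃ e ∈ E5 F, (act e c) 1 ≠ 0 := by
  by_cases h1 : c 1 = 0
  · by_cases h2 : c 2 = 0
    · by_cases h4 : c 4 = 0
      · have h0 : c 0 = 0 := by
          unfold Q5 at hQ
          rw [h1, h2, zero_mul, zero_mul, add_zero, add_zero] at hQ
          exact pow_eq_zero_iff (two_ne_zero) |>.1 hQ
        by_cases h3 : c 3 = 0
        · exfalso
          apply hc
          funext i
          fin_cases i <;> assumption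
        · refine ⟨xO 6 1, xO_mem 6 1, ?_⟩
          rw [act_xO, xm_mulVec_6]
          simp [h0, h1, h3]
      · refine ⟨xO 7 1, xO_mem 7 1, ?_⟩
        rw [act_xO, xm_mulVec_7]
        simp [h1, h4]
    · refine ⟨xO 4 1, xO_mem 4 1, ?_⟩
      rw [act_xO, xm_mulVec_4]
      simp [h1, h2]
  · exact ⟨1, one_mem _, by rw [act_one]; exact h1⟩

/-- the torus elements of `E` -/
noncomputable def hE (r : ℕ) (t : F) : ↥(E5 F) := (gensE F).hbar r t

theorem hE_val (r : ℕ) (hr : r < 8) (t : F) (ht : t ≠ 0) :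
    (((hE r t : ↥(E5 F)) : O5 F) : GL (Fin 5) F).val = Matrix.diagonal (hdiag r t) := by
  unfold hE Cfsg.Agent.Lib.Helper5.StPres.RootGens.hbar Cfsg.Agent.Lib.Helper5.StPres.RootGens.word
  show ((((chevB2.hWord r t).map fun p => xE p.1 p.2).prod : ↥(E5 F)) : O5 F).val.val = _
  rw [word_val, hWord_prod r hr t ht]

/-- a singular vector with non-zero `e₁`-coordinate can be moved to `e₁` -/
theorem exists_act_eq_bv_one_of_ne (c : Fin 5 → F) (h1 : c 1 ≠ 0) (hQ : Q5 c = 0) :
    ∃ e ∈ E5 F, act e c = bv 1 := by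
  set e₁ : O5 F := xO 1 (-c 0 / c 1) * xO 0 (-c 4 / c 1) * xO 3 (-c 2 / c 1) with he₁
  have hmem₁ : e₁ ∈ E5 F := mul_mem (mul_mem (xO_mem _ _) (xO_mem _ _)) (xO_mem _ _)
  set c' := act e₁ c with hc'
  have hQ' : Q5 c' = 0 := by rw [hc', Q5_act, hQ]
  have k0 : c' 0 = 0 := by
    rw [hc', he₁, act_mul, act_mul, act_xO, act_xO, act_xO, xm_mulVec_3, xm_mulVec_0, xm_mulVec_1]
    simp
    field_simp
    ring
  have k1 : c' 1 = c 1 := by
    rw [hc', he₁, act_mul, act_mul, act_xO, act_xO, act_xO, xm_mulVec_3, xm_mulVec_0, xm_mulVec_1]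
    simp
  have k2 : c' 2 = 0 := by
    rw [hc', he₁, act_mul, act_mul, act_xO, act_xO, act_xO, xm_mulVec_3, xm_mulVec_0, xm_mulVec_1]
    simp
    field_simp
    ring
  have k4 : c' 4 = 0 := by
    rw [hc', he₁, act_mul, act_mul, act_xO, act_xO, act_xO, xm_mulVec_3, xm_mulVec_0, xm_mulVec_1]
    simp
    field_simp
    ring
  have k3 : c' 3 = 0 := by
    unfold Q5 at hQ'
    rw [k0, k1, k2, zero_mul, add_zero] at hQ'
    have : c 1 * c' 3 = 0 := by
      rw [← hQ']
      ring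
    rcases mul_eq_zero.1 this with h | h
    · exact absurd h h1
    · exact h
  have ha0 : (c 1)⁻¹ ≠ 0 := inv_ne_zero h1
  refine ⟨(hE 4 (c 1)⁻¹ : ↥(E5 F)) * e₁, mul_mem (hE 4 (c 1)⁻¹).2 hmem₁, ?_⟩
  rw [act_mul, ← hc']
  unfold act
  rw [hE_val 4 (by norm_num) (c 1)⁻¹ ha0]
  funext i
  rw [Matrix.mulVec_diagonal, hdiag_4]
  fin_cases i <;> simp [bv, k0, k1, k2, k3, k4, h1]

/-- `E` is transitive on the non-zero singular vectors -/
theorem exists_act_eq_bv_one (c : Fin 5 → F) (hc : c ≠ 0) (hQ : Q5 c = 0) :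
    ∃ e ∈ E5 F, act e c = bv 1 := by
  obtain ⟨e, he, h1⟩ := exists_coord_one_ne c hc hQ
  obtain ⟨e', he', h2⟩ := exists_act_eq_bv_one_of_ne (act e c) h1 (by rw [Q5_act, hQ])
  exact ⟨e' * e, mul_mem he' he, by rw [act_mul, h2]⟩

/-- moving the second vector of a hyperbolic pair -/
theorem exists_fix_one_act_eq_bv_three (w : Fin 5 → F) (h3 : w 3 = 1) (hQ : Q5 w = 0) :
    ∃ e ∈ E5 F, act e (bv 1) = bv 1 ∧ act e w = bv 3 := by
  set e₁ : O5 F := xO 7 (w 2) * xO 4 (w 4) * xO 6 (w 0) with he₁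
  have hmem₁ : e₁ ∈ E5 F := mul_mem (mul_mem (xO_mem _ _) (xO_mem _ _)) (xO_mem _ _)
  refine ⟨e₁, hmem₁, ?_, ?_⟩
  · rw [he₁, act_mul, act_mul, act_xO, act_xO, act_xO, xm_mulVec_6, xm_mulVec_4, xm_mulVec_7]
    funext i
    fin_cases i <;> simp [bv]
  · set c' := act e₁ w with hc'
    have hQ' : Q5 c' = 0 := by rw [hc', Q5_act, hQ]
    have k0 : c' 0 = 0 := by
      rw [hc', he₁, act_mul, act_mul, act_xO, act_xO, act_xO, xm_mulVec_6, xm_mulVec_4,
        xm_mulVec_7]
      simp [h3]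
    have k2 : c' 2 = 0 := by
      rw [hc', he₁, act_mul, act_mul, act_xO, act_xO, act_xO, xm_mulVec_6, xm_mulVec_4,
        xm_mulVec_7]
      simp [h3]
    have k3 : c' 3 = 1 := by
      rw [hc', he₁, act_mul, act_mul, act_xO, act_xO, act_xO, xm_mulVec_6, xm_mulVec_4,
        xm_mulVec_7]
      simp [h3]
    have k4 : c' 4 = 0 := by
      rw [hc', he₁, act_mul, act_mul, act_xO, act_xO, act_xO, xm_mulVec_6, xm_mulVec_4,
        xm_mulVec_7]
      simp [h3]
    have k1 : c' 1 = 0 := by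
      unfold Q5 at hQ'
      rw [k0, k2, k3, zero_mul, add_zero, mul_one] at hQ'
      simpa using hQ'
    funext i
    fin_cases i <;> simp [bv, k0, k1, k2, k3, k4]

/-- the three-dimensional step: a singular vector of `⟨x₀, e₂, f₂⟩` can be moved to a multiple
of `e₂` -/
theorem exists_fix_act_eq_smul_bv_two (c : Fin 5 → F) (hc : c ≠ 0) (h1 : c 1 = 0) (h3 : c 3 = 0)
    (hQ : Q5 c = 0) :
    ∃ e ∈ E5 F, act e (bv 1) = bv 1 ∧ act e (bv 3) = bv 3 ∧ ∃ l : F, l ≠ 0 ∧ act e c = l • bv 2 := by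
  -- first make the `e₂`-coordinate non-zero
  have key : ∀ c : Fin 5 → F, c 1 = 0 → c 3 = 0 → Q5 c = 0 → c 2 ≠ 0 →
      ∃ e ∈ E5 F, act e (bv 1) = bv 1 ∧ act e (bv 3) = bv 3 ∧
        ∃ l : F, l ≠ 0 ∧ act e c = l • bv 2 := by
    intro c h1 h3 hQ h2
    set e₁ : O5 F := xO 2 (-c 0 / c 2) with he₁
    refine ⟨e₁, xO_mem _ _, ?_, ?_, c 2, h2, ?_⟩
    · rw [he₁, act_xO, xm_mulVec_2]
      funext i
      fin_cases i <;> simp [bv]
    · rw [he₁, act_xO, xm_mulVec_2]
      funext i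
      fin_cases i <;> simp [bv]
    · set c' := act e₁ c with hc'
      have hQ' : Q5 c' = 0 := by rw [hc', Q5_act, hQ]
      have k0 : c' 0 = 0 := by
        rw [hc', he₁, act_xO, xm_mulVec_2]
        simp
        field_simp
        ring
      have k1 : c' 1 = 0 := by
        rw [hc', he₁, act_xO, xm_mulVec_2]
        simp [h1]
      have k2 : c' 2 = c 2 := by
        rw [hc', he₁, act_xO, xm_mulVec_2]
        simp
      have k3 : c' 3 = 0 := by
        rw [hc', he₁, act_xO, xm_mulVec_2]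
        simp [h3]
      have k4 : c' 4 = 0 := by
        unfold Q5 at hQ'
        rw [k0, k1, k2, zero_mul, add_zero] at hQ'
        have : c 2 * c' 4 = 0 := by
          rw [← hQ']
          ring
        rcases mul_eq_zero.1 this with h | h
        · exact absurd h h2
        · exact h
      funext i
      fin_cases i <;> simp [bv, k0, k1, k2, k3, k4]
  by_cases h2 : c 2 = 0
  · have h0 : c 0 = 0 := by
      unfold Q5 at hQ
      rw [h1, h2, zero_mul, zero_mul, add_zero, add_zero] at hQ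
      exact pow_eq_zero_iff (two_ne_zero) |>.1 hQ
    have h4 : c 4 ≠ 0 := by
      intro h4
      apply hc
      funext i
      fin_cases i <;> assumption
    set e₀ : O5 F := xO 5 1 with he₀
    have f1 : act e₀ (bv 1) = bv 1 := by
      rw [he₀, act_xO, xm_mulVec_5]
      funext i
      fin_cases i <;> simp [bv]
    have f3 : act e₀ (bv 3) = bv 3 := by
      rw [he₀, act_xO, xm_mulVec_5]
      funext i
      fin_cases i <;> simp [bv]
    obtain ⟨e, he, g1, g3, l, hl, hel⟩ := key (act e₀ c)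
      (by rw [he₀, act_xO, xm_mulVec_5]; simp [h1])
      (by rw [he₀, act_xO, xm_mulVec_5]; simp [h3])
      (by rw [Q5_act, hQ])
      (by rw [he₀, act_xO, xm_mulVec_5]; simp [h0, h2, h4])
    refine ⟨e * e₀, mul_mem he (xO_mem _ _), ?_, ?_, l, hl, ?_⟩
    · rw [act_mul, f1, g1]
    · rw [act_mul, f3, g3]
    · rw [act_mul, hel]
  · exact key c h1 h3 hQ h2

/-- the last step: the partner of `e₂` -/
theorem exists_fix_act_eq_smul_bv_four (w : Fin 5 → F) (m : F) (hm : m ≠ 0) (h1 : w 1 = 0)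
    (h3 : w 3 = 0) (h4 : w 4 = m) (hQ : Q5 w = 0) :
    ∃ e ∈ E5 F, act e (bv 1) = bv 1 ∧ act e (bv 3) = bv 3 ∧ act e (bv 2) = bv 2 ∧
      act e w = m • bv 4 := by
  set e₁ : O5 F := xO 5 (w 0 / m) with he₁
  refine ⟨e₁, xO_mem _ _, ?_, ?_, ?_, ?_⟩
  · rw [he₁, act_xO, xm_mulVec_5]
    funext i
    fin_cases i <;> simp [bv]
  · rw [he₁, act_xO, xm_mulVec_5]
    funext i
    fin_cases i <;> simp [bv]
  · rw [he₁, act_xO, xm_mulVec_5]
    funext i
    fin_cases i <;> simp [bv]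
  · set c' := act e₁ w with hc'
    have hQ' : Q5 c' = 0 := by rw [hc', Q5_act, hQ]
    have k0 : c' 0 = 0 := by
      rw [hc', he₁, act_xO, xm_mulVec_5]
      simp [h4]
      field_simp
      ring
    have k1 : c' 1 = 0 := by
      rw [hc', he₁, act_xO, xm_mulVec_5]
      simp [h1]
    have k3 : c' 3 = 0 := by
      rw [hc', he₁, act_xO, xm_mulVec_5]
      simp [h3]
    have k4 : c' 4 = m := by
      rw [hc', he₁, act_xO, xm_mulVec_5]
      simp [h4]
    have k2 : c' 2 = 0 := by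
      unfold Q5 at hQ'
      rw [k0, k1, k4, zero_mul, add_zero] at hQ'
      have : c' 2 * m = 0 := by
        rw [← hQ']
        ring
      rcases mul_eq_zero.1 this with h | h
      · exact h
      · exact absurd h hm
    funext i
    fin_cases i <;> simp [bv, k0, k1, k2, k3, k4]

end Cfsg.Agent.Lib.Helper5.B2Orth
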