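import Mathlib
import Cfsg.Prelude.Def_Classical
import Cfsg.Agent.Lib.Helper5.B2Orth.Trans

set_option autoImplicit false
set_option linter.unusedSimpArgs false
set_option linter.unreachableTactic false
set_option linter.unusedTactic false

/-!
`O₅ = E · A` with `A` the diagonal matrices `diag(±1; 1, l; 1, l⁻¹)`.
-/

namespace Cfsg.Agent.Lib.Helper5.B2Orth

open Cfsg Cfsg.Lie Matrix

variable {F : Type*} [Field F]

theorem act_bv (g : O5 F) (i j : Fin 5) :
    (act g (bv j)) i = ((g : GL (Fin 5) F) : Matrix (Fin 5) (Fin 5) F) i j := by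
  unfold act bv
  rw [Matrix.mulVec_single_one]
  rfl

theorem bv_ne_zero (j : Fin 5) : (bv j : Fin 5 → F) ≠ 0 := by
  intro h
  have := congrFun h j
  simp [bv] at this

theorem B5_bv_one (u : Fin 5 → F) : B5 u (bv 1) = u 3 := by
  unfold B5 bv
  simp

theorem B5_bv_three (u : Fin 5 → F) : B5 u (bv 3) = u 1 := by
  unfold B5 bv
  simp

theorem B5_bv_two (u : Fin 5 → F) : B5 u (bv 2) = u 4 := by
  unfold B5 bv
  simp

theorem B5_bv_four (u : Fin 5 → F) : B5 u (bv 4) = u 2 := by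
  unfold B5 bv
  simp

theorem B5_smul_right (u v : Fin 5 → F) (c : F) : B5 u (c • v) = c * B5 u v := by
  unfold B5
  simp only [Pi.smul_apply, smul_eq_mul]
  ring

theorem Q5_bv_zero : Q5 (bv 0 : Fin 5 → F) = 1 := by
  unfold Q5 bv
  simp

theorem Q5_bv_pos (j : Fin 5) (hj : j ≠ 0) : Q5 (bv j : Fin 5 → F) = 0 := by
  unfold Q5 bv
  fin_cases j <;> simp at hj ⊢

/-- every element of `O₅` is the product of an element of `E` and a diagonal matrix -/
theorem exists_diag (g : O5 F) : ∃ e ∈ E5 F, ∃ ε l : F, ε ^ 2 = 1 ∧ l ≠ 0 ∧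
    (((e * g : O5 F) : GL (Fin 5) F) : Matrix (Fin 5) (Fin 5) F)
      = Matrix.diagonal ![ε, 1, l, 1, l⁻¹] := by
  -- step 1
  obtain ⟨e1, he1, h1⟩ := exists_act_eq_bv_one (act g (bv 1)) (act_ne_zero g _ (bv_ne_zero 1))
    (by rw [Q5_act, Q5_bv_pos 1 (by decide)])
  set g1 := e1 * g with hg1
  have a1 : act g1 (bv 1) = bv 1 := by rw [hg1, act_mul, h1]
  -- step 2
  have w3 : (act g1 (bv 3)) 3 = 1 := by
    have := B5_act g1 (bv 3) (bv 1)
    rw [a1, B5_bv_one, B5_bv_one] at this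
    rw [this]
    simp [bv]
  obtain ⟨e2, he2, f1, h2⟩ := exists_fix_one_act_eq_bv_three (act g1 (bv 3)) w3
    (by rw [Q5_act, Q5_bv_pos 3 (by decide)])
  set g2 := e2 * g1 with hg2
  have a2_1 : act g2 (bv 1) = bv 1 := by rw [hg2, act_mul, a1, f1]
  have a2_3 : act g2 (bv 3) = bv 3 := by rw [hg2, act_mul, h2]
  -- step 3
  have c1 : (act g2 (bv 2)) 1 = 0 := by
    have := B5_act g2 (bv 2) (bv 3)
    rw [a2_3, B5_bv_three, B5_bv_three] at this
    rw [this]
    simp [bv]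
  have c3 : (act g2 (bv 2)) 3 = 0 := by
    have := B5_act g2 (bv 2) (bv 1)
    rw [a2_1, B5_bv_one, B5_bv_one] at this
    rw [this]
    simp [bv]
  obtain ⟨e3, he3, f31, f33, l, hl, h3⟩ := exists_fix_act_eq_smul_bv_two (act g2 (bv 2))
    (act_ne_zero g2 _ (bv_ne_zero 2)) c1 c3 (by rw [Q5_act, Q5_bv_pos 2 (by decide)])
  set g3 := e3 * g2 with hg3
  have a3_1 : act g3 (bv 1) = bv 1 := by rw [hg3, act_mul, a2_1, f31]
  have a3_3 : act g3 (bv 3) = bv 3 := by rw [hg3, act_mul, a2_3, f33]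
  have a3_2 : act g3 (bv 2) = l • bv 2 := by rw [hg3, act_mul, h3]
  -- step 4
  have w1 : (act g3 (bv 4)) 1 = 0 := by
    have := B5_act g3 (bv 4) (bv 3)
    rw [a3_3, B5_bv_three, B5_bv_three] at this
    rw [this]
    simp [bv]
  have w3' : (act g3 (bv 4)) 3 = 0 := by
    have := B5_act g3 (bv 4) (bv 1)
    rw [a3_1, B5_bv_one, B5_bv_one] at this
    rw [this]
    simp [bv]
  have w4 : (act g3 (bv 4)) 4 = l⁻¹ := by
    have := B5_act g3 (bv 4) (bv 2)
    rw [a3_2, B5_smul_right, B5_bv_two, B5_bv_two] at this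
    have e : (bv 4 : Fin 5 → F) 4 = 1 := by simp [bv]
    rw [e] at this
    field_simp
    rw [mul_comm]
    exact this
  obtain ⟨e4, he4, f41, f43, f42, h4⟩ := exists_fix_act_eq_smul_bv_four (act g3 (bv 4)) l⁻¹
    (inv_ne_zero hl) w1 w3' w4 (by rw [Q5_act, Q5_bv_pos 4 (by decide)])
  set g4 := e4 * g3 with hg4
  have a4_1 : act g4 (bv 1) = bv 1 := by rw [hg4, act_mul, a3_1, f41]
  have a4_3 : act g4 (bv 3) = bv 3 := by rw [hg4, act_mul, a3_3, f43]
  have a4_2 : act g4 (bv 2) = l • bv 2 := by rw [hg4, act_mul, a3_2, act_smul, f42]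
  have a4_4 : act g4 (bv 4) = l⁻¹ • bv 4 := by rw [hg4, act_mul, h4]
  -- step 5
  have d3 : (act g4 (bv 0)) 3 = 0 := by
    have := B5_act g4 (bv 0) (bv 1)
    rw [a4_1, B5_bv_one, B5_bv_one] at this
    rw [this]
    simp [bv]
  have d1 : (act g4 (bv 0)) 1 = 0 := by
    have := B5_act g4 (bv 0) (bv 3)
    rw [a4_3, B5_bv_three, B5_bv_three] at this
    rw [this]
    simp [bv]
  have d4 : (act g4 (bv 0)) 4 = 0 := by
    have := B5_act g4 (bv 0) (bv 2)
    rw [a4_2, B5_smul_right, B5_bv_two, B5_bv_two] at this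
    have e : (bv 0 : Fin 5 → F) 4 = 0 := by simp [bv]
    rw [e] at this
    rcases mul_eq_zero.1 this with h | h
    · exact absurd h hl
    · exact h
  have d2 : (act g4 (bv 0)) 2 = 0 := by
    have := B5_act g4 (bv 0) (bv 4)
    rw [a4_4, B5_smul_right, B5_bv_four, B5_bv_four] at this
    have e : (bv 0 : Fin 5 → F) 2 = 0 := by simp [bv]
    rw [e] at this
    rcases mul_eq_zero.1 this with h | h
    · exact absurd h (inv_ne_zero hl)
    · exact h
  have d0 : (act g4 (bv 0)) 0 ^ 2 = 1 := by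
    have := Q5_act g4 (bv 0)
    rw [Q5_bv_zero] at this
    unfold Q5 at this
    rw [d1, d2, zero_mul, zero_mul, add_zero, add_zero] at this
    exact this
  refine ⟨e4 * e3 * e2 * e1, mul_mem (mul_mem (mul_mem he4 he3) he2) he1, (act g4 (bv 0)) 0, l, d0, hl,
    ?_⟩
  have eg : e4 * e3 * e2 * e1 * g = g4 := by
    rw [hg4, hg3, hg2, hg1]
    simp only [mul_assoc]
  rw [eg]
  ext i j
  rw [← act_bv]
  fin_cases j
  · fin_cases i <;> simp [d1, d2, d3, d4]
  · have := congrFun a4_1 i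
    simp only [Fin.mk_one, Fin.isValue] at this ⊢
    rw [this]
    fin_cases i <;> simp [bv]
  · have := congrFun a4_2 i
    simp only [Fin.reduceFinMk, Fin.isValue] at this ⊢
    rw [this]
    fin_cases i <;> simp [bv]
  · have := congrFun a4_3 i
    simp only [Fin.reduceFinMk, Fin.isValue] at this ⊢
    rw [this]
    fin_cases i <;> simp [bv]
  · have := congrFun a4_4 i
    simp only [Fin.reduceFinMk, Fin.isValue] at this ⊢
    rw [this]
    fin_cases i <;> simp [bv]

end Cfsg.Agent.Lib.Helper5.B2Orth
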