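import Mathlib
import Cfsg.Prelude.Def_Classical
import Cfsg.Agent.Lib.Helper5.B2Orth.Elim

set_option autoImplicit false
set_option linter.unusedSimpArgs false
set_option linter.unreachableTactic false
set_option linter.unusedTactic false

/-!
`Ω₅ = [O₅, O₅]` is the subgroup `E` generated by the root elements.
-/

namespace Cfsg.Agent.Lib.Helper5.B2Orth

open Cfsg Cfsg.Lie Matrix

variable {F : Type*} [Field F]

/-- the character by which a diagonal matrix acts on the root subgroup `X_r` -/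
def chiD (r : ℕ) (ε m l : F) : F :=
  match r with
  | 0 => (m * l)⁻¹
  | 1 => ε * m⁻¹
  | 2 => ε * l⁻¹
  | 3 => l * m⁻¹
  | 4 => m * l⁻¹
  | 5 => ε * l
  | 6 => ε * m
  | 7 => m * l
  | _ => 1

/-- diagonal matrices normalise the root subgroups -/
theorem diag_mul_xm (ε m l : F) (hε : ε = 1 ∨ ε = -1) (hm : m ≠ 0) (hl : l ≠ 0) (r : ℕ)
    (hr : r < 8) (t : F) :
    Matrix.diagonal ![ε, m, l, m⁻¹, l⁻¹] * xm r t
      = xm r (chiD r ε m l * t) * Matrix.diagonal ![ε, m, l, m⁻¹, l⁻¹] := by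
  apply ext_mulVec
  intro v
  rw [← Matrix.mulVec_mulVec, ← Matrix.mulVec_mulVec]
  rcases hε with rfl | rfl <;> interval_cases r <;>
  · simp only [xm_mulVec_0, xm_mulVec_1, xm_mulVec_2, xm_mulVec_3, xm_mulVec_4, xm_mulVec_5,
      xm_mulVec_6, xm_mulVec_7, chiD]
    ext i
    rw [Matrix.mulVec_diagonal]
    fin_cases i <;> simp [Matrix.mulVec_diagonal] <;> field_simp <;> ring

/-- `E` is normalised by the elements of `O₅` with diagonal matrix -/
theorem diag_conj_mem (D : O5 F) (ε m l : F) (hε : ε = 1 ∨ ε = -1) (hm : m ≠ 0) (hl : l ≠ 0)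
    (hD : ((D : GL (Fin 5) F) : Matrix (Fin 5) (Fin 5) F) = Matrix.diagonal ![ε, m, l, m⁻¹, l⁻¹])
    (x : O5 F) (hx : x ∈ E5 F) : D * x * D⁻¹ ∈ E5 F := by
  unfold E5 at hx
  induction hx using Subgroup.closure_induction with
  | mem y hy =>
    obtain ⟨r, t, hr, rfl⟩ := hy
    have : D * xO r t * D⁻¹ = xO r (chiD r ε m l * t) := by
      rw [mul_inv_eq_iff_eq_mul]
      apply Subtype.ext
      apply Units.ext
      rw [Subgroup.coe_mul, Subgroup.coe_mul, Units.val_mul, Units.val_mul, hD, xO_val, xO_val]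
      exact diag_mul_xm ε m l hε hm hl r hr t
    rw [this]
    exact xO_mem _ _
  | one =>
    simp only [mul_one, mul_inv_cancel]
    exact one_mem _
  | mul a b _ _ ha hb =>
    have e : D * (a * b) * D⁻¹ = (D * a * D⁻¹) * (D * b * D⁻¹) := by group
    rw [e]
    exact mul_mem ha hb
  | inv a _ ha =>
    have e : D * a⁻¹ * D⁻¹ = (D * a * D⁻¹)⁻¹ := by group
    rw [e]
    exact inv_mem ha

theorem sq_eq_one_iff' (ε : F) (h : ε ^ 2 = 1) : ε = 1 ∨ ε = -1 := by
  have : (ε - 1) * (ε + 1) = 0 := by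
    rw [← sub_eq_zero] at h
    rw [← h]
    ring
  rcases mul_eq_zero.1 this with h1 | h1
  · left
    exact sub_eq_zero.1 h1
  · right
    exact eq_neg_of_add_eq_zero_left h1

/-- `E` is normal in `O₅` -/
instance E5_normal : (E5 F).Normal := by
  constructor
  intro x hx g
  obtain ⟨e, he, ε, l, hε, hl, hD⟩ := exists_diag g
  have h1 : (1 : F) ≠ 0 := one_ne_zero
  have hD' : (((e * g : O5 F) : GL (Fin 5) F) : Matrix (Fin 5) (Fin 5) F)
      = Matrix.diagonal ![ε, 1, l, (1 : F)⁻¹, l⁻¹] := by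
    rw [hD, inv_one]
  have := diag_conj_mem (e * g) ε 1 l (sq_eq_one_iff' ε hε) h1 hl hD' x hx
  have e2 : g * x * g⁻¹ = e⁻¹ * ((e * g) * x * (e * g)⁻¹) * e := by group
  rw [e2]
  exact mul_mem (mul_mem (inv_mem he) this) he

/-- the commutator subgroup lies in `E` -/
theorem commutator_le_E5 : commutator (O5 F) ≤ E5 F := by
  rw [commutator_def, Subgroup.commutator_le]
  intro g₁ _ g₂ _
  obtain ⟨e₁, he₁, ε₁, l₁, hε₁, hl₁, hD₁⟩ := exists_diag g₁
  obtain ⟨e₂, he₂, ε₂, l₂, hε₂, hl₂, hD₂⟩ := exists_diag g₂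
  have hcomm : (e₁ * g₁) * (e₂ * g₂) = (e₂ * g₂) * (e₁ * g₁) := by
    have hv : ∀ a b : O5 F, ((a * b : O5 F) : GL (Fin 5) F).val
        = (a : GL (Fin 5) F).val * (b : GL (Fin 5) F).val := fun a b => rfl
    apply Subtype.ext
    apply Units.ext
    rw [hv (e₁ * g₁) (e₂ * g₂), hv (e₂ * g₂) (e₁ * g₁), hD₁, hD₂,
      Matrix.diagonal_mul_diagonal, Matrix.diagonal_mul_diagonal]
    congr 1
    funext i
    exact mul_comm _ _
  rw [← QuotientGroup.eq_one_iff]
  have q1 : (QuotientGroup.mk g₁ : O5 F ⧸ E5 F) = QuotientGroup.mk (e₁ * g₁) := by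
    rw [QuotientGroup.mk_mul, (QuotientGroup.eq_one_iff e₁).2 he₁, one_mul]
  have q2 : (QuotientGroup.mk g₂ : O5 F ⧸ E5 F) = QuotientGroup.mk (e₂ * g₂) := by
    rw [QuotientGroup.mk_mul, (QuotientGroup.eq_one_iff e₂).2 he₂, one_mul]
  rw [commutatorElement_def, QuotientGroup.mk_mul, QuotientGroup.mk_mul, QuotientGroup.mk_mul,
    QuotientGroup.mk_inv, QuotientGroup.mk_inv, q1, q2, ← QuotientGroup.mk_mul, hcomm,
    QuotientGroup.mk_mul]
  group

/-- the torus elements of `O₅` -/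
def torO (m l : F) (hm : m ≠ 0) (hl : l ≠ 0) : O5 F :=
  ⟨⟨Matrix.diagonal ![1, m, l, m⁻¹, l⁻¹], Matrix.diagonal ![1, m⁻¹, l⁻¹, m, l], by
      rw [Matrix.diagonal_mul_diagonal, ← Matrix.diagonal_one]
      congr 1
      funext i
      fin_cases i <;> simp [hm, hl], by
      rw [Matrix.diagonal_mul_diagonal, ← Matrix.diagonal_one]
      congr 1
      funext i
      fin_cases i <;> simp [hm, hl]⟩, by
    intro u _
    show Q5 (Matrix.diagonal ![1, m, l, m⁻¹, l⁻¹] *ᵥ u) = Q5 u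
    unfold Q5
    simp only [Matrix.mulVec_diagonal]
    simp
    field_simp⟩

theorem torO_val (m l : F) (hm : m ≠ 0) (hl : l ≠ 0) :
    ((torO m l hm hl : GL (Fin 5) F) : Matrix (Fin 5) (Fin 5) F)
      = Matrix.diagonal ![1, m, l, m⁻¹, l⁻¹] := rfl

/-- the root elements are commutators -/
theorem xO_mem_commutator (hF : ∃ a : F, a ≠ 0 ∧ a ≠ 1) (r : ℕ) (hr : r < 8) (s : F) :
    xO r s ∈ commutator (O5 F) := by
  obtain ⟨a, ha0, ha1⟩ := hF
  -- a torus element acting on `X_r` by a character `c ≠ 1`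
  have key : ∃ D : O5 F, ∃ c : F, c ≠ 1 ∧ ∀ t : F, D * xO r t * D⁻¹ = xO r (c * t) := by
    have hconj : ∀ (m l : F) (hm : m ≠ 0) (hl : l ≠ 0) (t : F),
        torO m l hm hl * xO r t * (torO m l hm hl)⁻¹ = xO r (chiD r 1 m l * t) := by
      intro m l hm hl t
      rw [mul_inv_eq_iff_eq_mul]
      apply Subtype.ext
      apply Units.ext
      rw [Subgroup.coe_mul, Subgroup.coe_mul, Units.val_mul, Units.val_mul, torO_val, xO_val,
        xO_val]
      exact diag_mul_xm 1 m l (Or.inl rfl) hm hl r hr t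
    have hinv : a⁻¹ ≠ 1 := by
      intro h
      apply ha1
      rw [← inv_inv a, h, inv_one]
    interval_cases r
    · exact ⟨torO a 1 ha0 one_ne_zero, _, by simpa [chiD] using hinv, hconj a 1 ha0 one_ne_zero⟩
    · exact ⟨torO a 1 ha0 one_ne_zero, _, by simpa [chiD] using hinv, hconj a 1 ha0 one_ne_zero⟩
    · exact ⟨torO 1 a one_ne_zero ha0, _, by simpa [chiD] using hinv, hconj 1 a one_ne_zero ha0⟩
    · exact ⟨torO a 1 ha0 one_ne_zero, _, by simpa [chiD] using hinv, hconj a 1 ha0 one_ne_zero⟩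
    · exact ⟨torO a 1 ha0 one_ne_zero, _, by simpa [chiD] using ha1, hconj a 1 ha0 one_ne_zero⟩
    · exact ⟨torO 1 a one_ne_zero ha0, _, by simpa [chiD] using ha1, hconj 1 a one_ne_zero ha0⟩
    · exact ⟨torO a 1 ha0 one_ne_zero, _, by simpa [chiD] using ha1, hconj a 1 ha0 one_ne_zero⟩
    · exact ⟨torO a 1 ha0 one_ne_zero, _, by simpa [chiD] using ha1, hconj a 1 ha0 one_ne_zero⟩
  obtain ⟨D, c, hc, hconj⟩ := key
  have hc1 : c - 1 ≠ 0 := sub_ne_zero.2 hc
  have : xO r s = D * xO r (s / (c - 1)) * D⁻¹ * (xO r (s / (c - 1)))⁻¹ := by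
    rw [hconj, xO_inv, xO_add]
    congr 1
    field_simp
    ring
  rw [this, commutator_def, ← commutatorElement_def]
  exact Subgroup.commutator_mem_commutator (Subgroup.mem_top _) (Subgroup.mem_top _)

/-- `[O₅, O₅] = E` -/
theorem commutator_eq_E5 (hF : ∃ a : F, a ≠ 0 ∧ a ≠ 1) : commutator (O5 F) = E5 F := by
  apply le_antisymm commutator_le_E5
  unfold E5
  rw [Subgroup.closure_le]
  rintro g ⟨r, t, hr, rfl⟩
  exact xO_mem_commutator hF r hr t

/-- `E` is not abelian -/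
theorem E5_not_comm : ∃ x y : ↥(E5 F), x * y ≠ y * x := by
  refine ⟨xE 4 1, xE 3 1, fun h => ?_⟩
  have h1 := congrArg (fun z : ↥(E5 F) => ((z : O5 F) : GL (Fin 5) F).val 1 1) h
  simp only [Subgroup.coe_mul, Units.val_mul] at h1
  have e4 : (((xE 4 (1 : F) : ↥(E5 F)) : O5 F) : GL (Fin 5) F).val = xm 4 1 := rfl
  have e3 : (((xE 3 (1 : F) : ↥(E5 F)) : O5 F) : GL (Fin 5) F).val = xm 3 1 := rfl
  rw [e4, e3, xm_4, xm_3] at h1
  simp [Matrix.mul_apply, Fin.sum_univ_five] at h1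

end Cfsg.Agent.Lib.Helper5.B2Orth
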