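import Mathlib
import Cfsg.Prelude.Def_Classical
import Cfsg.Prelude.Def_ChevB2
import Cfsg.Agent.Lib.Helper5.B2Orth.Omega
import Cfsg.Agent.Lib.Helper5.B2Orth.AbsIso
import Cfsg.Agent.Lib.Helper5.IsomReindex
import Cfsg.Agent.Lib.Helper5.StPres.StMain
import Cfsg.Agent.Lib.Helper5.ChevSimple

set_option autoImplicit false

/-!
`B₂(F) ≅ PΩ₅(F)`.
-/

namespace Cfsg.Agent.Lib.Helper5.B2Orth

open Cfsg Cfsg.Lie Matrix Cfsg.Agent.Lib.Helper5.StPres Cfsg.Agent.Lib.Helper5.ChevStruct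
  Cfsg.Agent.Lib.Helper5.IsomReindex

variable {F : Type*} [Field F]

/-- the coordinates of the form `x₀² + x₁y₁ + x₂y₂` -/
def sig5 : Fin 5 ≃ Unit ⊕ (Fin 2 ⊕ Fin 2) where
  toFun := ![Sum.inl (), Sum.inr (Sum.inl 0), Sum.inr (Sum.inl 1), Sum.inr (Sum.inr 0),
    Sum.inr (Sum.inr 1)]
  invFun := fun x => match x with
    | Sum.inl _ => 0
    | Sum.inr (Sum.inl i) => if i = 0 then 1 else 2
    | Sum.inr (Sum.inr i) => if i = 0 then 3 else 4
  left_inv := by
    intro i
    fin_cases i <;> rfl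
  right_inv := by
    rintro (_ | i | i)
    · rfl
    · fin_cases i <;> rfl
    · fin_cases i <;> rfl

theorem quadFormOdd_eq (v : Unit ⊕ (Fin 2 ⊕ Fin 2) → F) :
    Cfsg.quadFormOdd 2 F v = Q5 (v ∘ sig5) := by
  unfold Cfsg.quadFormOdd Q5
  rw [Fin.sum_univ_two]
  simp only [Function.comp_apply]
  have h0 : sig5 0 = Sum.inl () := rfl
  have h1 : sig5 1 = Sum.inr (Sum.inl 0) := rfl
  have h2 : sig5 2 = Sum.inr (Sum.inl 1) := rfl
  have h3 : sig5 3 = Sum.inr (Sum.inr 0) := rfl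
  have h4 : sig5 4 = Sum.inr (Sum.inr 1) := rfl
  rw [h0, h1, h2, h3, h4]
  ring

/-- the isometry group of `x₀² + x₁y₁ + x₂y₂` in the two coordinate systems -/
noncomputable def o5Equiv (F : Type*) [Field F] :
    O5 F ≃* ↥(isometryGroup F (Cfsg.quadFormOdd 2 F)) :=
  isometryGroupReindexMul sig5 (Q5 (F := F)) (Cfsg.quadFormOdd 2 F) quadFormOdd_eq

theorem map_commutator_equiv {G G' : Type*} [Group G] [Group G'] (e : G ≃* G') :
    (commutator G).map e.toMonoidHom = commutator G' := by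
  rw [commutator_def, commutator_def, Subgroup.map_commutator,
    Subgroup.map_top_of_surjective _ e.surjective]

/-- `B₂(F) ≅ PΩ₅(F)` -/
theorem b2_equiv_pomega (hF : ∃ a : F, a ≠ 0 ∧ a ≠ 1) :
    Nonempty (↥(chevB2.group F) ≃* Cfsg.POmega F (Cfsg.quadFormOdd 2 F)) := by
  have hB2 : chevB2 ∈ Seven := by simp
  obtain ⟨θ, hθ, hker, -⟩ := st_main chevB2 hB2 F
  have hsimple := (group_simple (F := F) chevB2 hB2 (fun _ => hF)).1
  let ψ : chevB2.SteinbergGroup F →* ↥(isometryGroup F (Cfsg.quadFormOdd 2 F)) :=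
    (o5Equiv F).toMonoidHom.comp ((E5 F).subtype.comp (stToE F))
  have hrange : ψ.range = commutator ↥(isometryGroup F (Cfsg.quadFormOdd 2 F)) := by
    rw [MonoidHom.range_comp, MonoidHom.range_comp, MonoidHom.range_eq_top.2 stToE_surjective,
      ← MonoidHom.range_eq_map, Subgroup.range_subtype, ← commutator_eq_E5 hF,
      map_commutator_equiv]
  -- the commutator subgroup is not abelian
  have hnc : ∃ x y : ↥(commutator ↥(isometryGroup F (Cfsg.quadFormOdd 2 F))), x * y ≠ y * x := by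
    obtain ⟨x, y, hxy⟩ := E5_not_comm (F := F)
    have hx : ψ.range = commutator ↥(isometryGroup F (Cfsg.quadFormOdd 2 F)) := hrange
    have mem : ∀ z : ↥(E5 F), (o5Equiv F) (z : O5 F) ∈
        commutator ↥(isometryGroup F (Cfsg.quadFormOdd 2 F)) := by
      intro z
      rw [← map_commutator_equiv (o5Equiv F), commutator_eq_E5 hF]
      exact ⟨z, z.2, rfl⟩
    refine ⟨⟨_, mem x⟩, ⟨_, mem y⟩, fun h => hxy ?_⟩
    have h' := congrArg Subtype.val h
    simp only [Subgroup.coe_mul] at h'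
    rw [← map_mul, ← map_mul] at h'
    apply Subtype.ext
    exact (o5Equiv F).injective h'
  exact nonempty_equiv_of_central_quotients θ hθ hker hsimple _ ψ hrange hnc

end Cfsg.Agent.Lib.Helper5.B2Orth
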